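import Cfsg.Agent.OddHalf.D9.L34.CFacts
import Cfsg.Agent.OddHalf.D9.Cut
import Cfsg.Agent.OddHalf.Front.FE
import Cfsg.Agent.OddHalf.Soft

/-!
# `K = 2.L3(4)` is not a standard component (any centralizer)

`false_of_l34`: no hypothesis on the Sylow 2-subgroups of `C_G(K)`; this covers the rows `2.L3(4)` of D4 and D9.
-/

set_option autoImplicit false

namespace Cfsg.Agent.OddHalf.D9.L34.RowAny

open Subgroup Cfsg Cfsg.Agent.OddHalf.Iface
open Cfsg.Agent.OddHalf.Front.FE (centralizer_le_normalizer mem_normalizer_iff_map)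
open Cfsg.Agent.SignalizersComponents.DistinctComponents

universe u

variable {G : Type u} [Group G]

theorem perfect_of_equiv {A B : Type*} [Group A] [Group B] (e : A ≃* B) (h : commutator A = ⊤) :
    commutator B = ⊤ := by
  have h2 := Subgroup.map_commutator (⊤ : Subgroup A) ⊤ e.toMonoidHom
  rw [← commutator_def, h] at h2
  have h3 : (⊤ : Subgroup A).map e.toMonoidHom = ⊤ := by
    rw [← MonoidHom.range_eq_map, MonoidHom.range_eq_top]
    exact e.surjective
  rw [h3] at h2
  rw [commutator_def, ← h2]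

theorem map_center_equiv {A B : Type*} [Group A] [Group B] (e : A ≃* B) :
    (center A).map e.toMonoidHom = center B := by
  ext y
  constructor
  · rintro ⟨x, hx, rfl⟩
    rw [mem_center_iff]
    intro w
    obtain ⟨w, rfl⟩ := e.surjective w
    have h1 := congrArg e (mem_center_iff.1 hx w)
    rw [map_mul, map_mul] at h1
    exact h1
  · intro hy
    refine ⟨e.symm y, ?_, e.apply_symm_apply y⟩
    rw [SetLike.mem_coe, mem_center_iff]
    intro w
    apply e.injective
    rw [map_mul, map_mul, e.apply_symm_apply]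
    exact mem_center_iff.1 hy _

/-- the facts for an isomorphic group -/
theorem exists_cfacts_of_equiv {A B : Type*} [Group A] [Group B] [Finite B] (f : A ≃* B)
    (hZ2 : Nat.card (center A) = 2) (hperf : commutator A = ⊤) {F : Type*} [Field F] [Fintype F]
    (hF : Fintype.card F = 4) (e : A ⧸ center A ≃* Matrix.ProjectiveSpecialLinearGroup (Fin 3) F) :
    ∃ z : B, AnyC.CFacts z 16 := by
  have hc := map_center_equiv f
  refine exists_cfacts ?_ (perfect_of_equiv f hperf) hF
    ((QuotientGroup.congr (center A) (center B) f hc).symm.trans e)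
  rw [← hZ2, ← hc]
  exact (Nat.card_congr ((center A).equivMapOfInjective _ f.injective).toEquiv).symm

/-- **`K = 2.L3(4)` is not standard.** -/
theorem false_of_l34 (C : Ctx G) {K : Subgroup G} (S : Std0 G K) (h2 : Nat.card (center K) = 2)
    (hX : Cut.XL34 (K ⧸ center K)) : False := by
  have := C.fin
  have := C.simple
  obtain ⟨F, iF, iFF, hF, ⟨e⟩⟩ := hX
  obtain ⟨t, -, hcomp⟩ := S.comp
  have hperf : commutator K = ⊤ := (Soft.CompOf.quasisimple hcomp).1.commutator_eq_top
  obtain ⟨z0, hz0⟩ := exists_cfacts h2 hperf hF e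
  obtain ⟨z, hz⟩ : ∃ z : G, z = z0 := ⟨_, rfl⟩
  have hzK : z ∈ K := by rw [hz]; exact z0.2
  have hzz : z * z = 1 := by rw [hz]; exact congrArg Subtype.val hz0.zz
  have hz1 : z ≠ 1 := by rw [hz]; exact fun h => hz0.z1 (Subtype.ext h)
  have hzc : ∀ k ∈ K, k * z = z * k := by
    rw [hz]; exact fun k hk => congrArg Subtype.val (hz0.zc ⟨k, hk⟩)
  have hcen : ∀ x ∈ K, (∀ y ∈ K, x * y = y * x) → x = 1 ∨ x = z := by
    intro x hx hc
    rcases hz0.cen ⟨x, hx⟩ (fun y => Subtype.ext (hc y y.2)) with h | h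
    · exact Or.inl (congrArg Subtype.val h)
    · exact Or.inr (by rw [hz]; exact congrArg Subtype.val h)
  have hord : ∀ y : G, y * y = 1 → y ≠ 1 → orderOf y = 2 := fun y h h1 =>
    orderOf_eq_prime (by rw [pow_two]; exact h) h1
  have hzo := hord z hzz hz1
  have hzC : z ∈ centralizer (K : Set G) := mem_centralizer_iff.2 fun k hk => hzc k hk
  -- `C(z) ≤ N(K) ≤ C(z)`
  have hCN := centralizer_le_normalizer S.toTerm0 S.std hzo hzC
  have hnrm : ∀ h, h * z = z * h → ∀ k ∈ K, h * k * h⁻¹ ∈ K := fun h hh k hk =>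
    (mem_normalizer_iff.1 (hCN (mem_centralizer_singleton_iff.2 hh)) k).1 hk
  have hNz : ∀ h ∈ normalizer (K : Set G), h * z = z * h := by
    intro h hh
    have hh' : ∀ k, k ∈ K ↔ h * k * h⁻¹ ∈ K := fun k => mem_normalizer_iff.1 hh k
    rcases hcen (h * z * h⁻¹) ((hh' z).1 hzK) (by
      intro y hy
      have h3 : h⁻¹ * y * h ∈ K := by
        rw [hh']
        have : h * (h⁻¹ * y * h) * h⁻¹ = y := by group
        rwa [this]
      have h4 := hzc _ h3
      calc h * z * h⁻¹ * y = h * (z * (h⁻¹ * y * h)) * h⁻¹ := by group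
        _ = h * ((h⁻¹ * y * h) * z) * h⁻¹ := by rw [h4]
        _ = y * (h * z * h⁻¹) := by group) with h3 | h3
    · exfalso
      apply hz1
      calc z = h⁻¹ * (h * z * h⁻¹) * h := by group
        _ = 1 := by rw [h3]; group
    · exact mul_inv_eq_iff_eq_mul.1 h3
  have hC1 : ∀ v, v * v = 1 → v ≠ 1 → (∀ k ∈ K, v * k = k * v) → ∀ g, g * v = v * g → g * z = z * g := by
    intro v hv hv1 hvK g hg
    exact hNz g (centralizer_le_normalizer S.toTerm0 S.std (hord v hv hv1)
      (mem_centralizer_iff.2 fun k hk => (hvK k hk).symm) (mem_centralizer_singleton_iff.2 hg))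
  have hC2 : ∀ g, (∀ k ∈ K, g * z * g⁻¹ * k = k * (g * z * g⁻¹)) → g * z * g⁻¹ = z := by
    intro g hg
    have hyy : g * z * g⁻¹ * (g * z * g⁻¹) = 1 := by
      calc g * z * g⁻¹ * (g * z * g⁻¹) = g * (z * z) * g⁻¹ := by group
        _ = 1 := by rw [hzz]; group
    have hy1 : g * z * g⁻¹ ≠ 1 := by
      intro h
      apply hz1
      calc z = g⁻¹ * (g * z * g⁻¹) * g := by group
        _ = 1 := by rw [h]; group
    have hyo := hord _ hyy hy1
    have hyC : g * z * g⁻¹ ∈ centralizer (K : Set G) := mem_centralizer_iff.2 fun k hk => (hg k hk).symm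
    obtain ⟨hKy, hKc⟩ := S.term _ hyo hyC
    obtain ⟨hKz, hKzc⟩ := S.term z hzo hzC
    have hKg : K.map (MulAut.conj g).toMonoidHom = K := by
      by_contra hne
      have h1 := isComponent_subgroupOf_conj hKz hKzc g
      have h0 : (centralizer ({z} : Set G)).map (MulAut.conj g).toMonoidHom =
          centralizer ({g * z * g⁻¹} : Set G) := map_conj_centralizer_singleton _ _
      rw [h0] at h1
      have hle : K.map (MulAut.conj g).toMonoidHom ≤ centralizer ({g * z * g⁻¹} : Set G) := by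
        rw [← h0]; exact map_mono hKz
      have hne' : K.subgroupOf (centralizer ({g * z * g⁻¹} : Set G)) ≠
          (K.map (MulAut.conj g).toMonoidHom).subgroupOf (centralizer ({g * z * g⁻¹} : Set G)) := by
        intro h
        apply hne
        have := congrArg (Subgroup.map (centralizer ({g * z * g⁻¹} : Set G)).subtype) h
        rw [subgroupOf_map_subtype, subgroupOf_map_subtype, inf_of_le_left hKy, inf_of_le_left hle] at this
        exact this.symm
      have h3 := distinct_components_commute hKc h1 hne'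
      have h4 := commutator_subgroupOf_eq_bot hKy h3
      rw [inf_of_le_left hle] at h4
      exact S.std.2.2.1 g hne h4
    have h5 : g ∈ normalizer (K : Set G) := mem_normalizer_iff_map.2 hKg
    exact mul_inv_eq_iff_eq_mul.2 (hNz g h5)
  refine AnyC.false_of_pt (K := K) (z := z) (m := 16) C.na (fun g => ?_) hC2
  let f : K ≃* K.map (MulAut.conj g).toMonoidHom :=
    K.equivMapOfInjective _ (MulAut.conj g).injective
  obtain ⟨z', hz'⟩ := exists_cfacts_of_equiv f h2 hperf hF e
  have hmem : g * z * g⁻¹ ∈ K.map (MulAut.conj g).toMonoidHom := ⟨z, hzK, rfl⟩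
  have hz'z : (⟨g * z * g⁻¹, hmem⟩ : K.map (MulAut.conj g).toMonoidHom) = z' := by
    rcases hz'.cen ⟨g * z * g⁻¹, hmem⟩ (by
      rintro ⟨_, ⟨k, hk, rfl⟩⟩
      apply Subtype.ext
      show g * z * g⁻¹ * (g * k * g⁻¹) = g * k * g⁻¹ * (g * z * g⁻¹)
      have h3 := hzc k hk
      calc g * z * g⁻¹ * (g * k * g⁻¹) = g * (z * k) * g⁻¹ := by group
        _ = g * (k * z) * g⁻¹ := by rw [h3]
        _ = _ := by group) with h3 | h3
    · exfalso
      have h4 : g * z * g⁻¹ = 1 := congrArg Subtype.val h3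
      apply hz1
      calc z = g⁻¹ * (g * z * g⁻¹) * g := by group
        _ = 1 := by rw [h4]; group
    · exact h3
  refine ⟨hmem, by rw [hz'z]; exact hz', ?_, ?_⟩
  · rintro h hh _ ⟨k, hk, rfl⟩
    have h3 := hnrm (g⁻¹ * h * g) (by
      calc g⁻¹ * h * g * z = g⁻¹ * (h * (g * z * g⁻¹)) * g := by group
        _ = g⁻¹ * (g * z * g⁻¹ * h) * g := by rw [hh]
        _ = z * (g⁻¹ * h * g) := by group) k hk
    refine ⟨_, h3, ?_⟩
    show g * (g⁻¹ * h * g * k * (g⁻¹ * h * g)⁻¹) * g⁻¹ = h * (g * k * g⁻¹) * h⁻¹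
    group
  · intro v hv hv1 hvK x hx
    have h3 := hC1 (g⁻¹ * v * g) (by
      calc g⁻¹ * v * g * (g⁻¹ * v * g) = g⁻¹ * (v * v) * g := by group
        _ = 1 := by rw [hv]; group) (by
      intro h
      apply hv1
      calc v = g * (g⁻¹ * v * g) * g⁻¹ := by group
        _ = 1 := by rw [h]; group) (by
      intro k hk
      have h4 := hvK _ ⟨k, hk, rfl⟩
      change v * (g * k * g⁻¹) = g * k * g⁻¹ * v at h4
      calc g⁻¹ * v * g * k = g⁻¹ * (v * (g * k * g⁻¹)) * g := by group
        _ = g⁻¹ * (g * k * g⁻¹ * v) * g := by rw [h4]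
        _ = k * (g⁻¹ * v * g) := by group) (g⁻¹ * x * g) (by
      calc g⁻¹ * x * g * (g⁻¹ * v * g) = g⁻¹ * (x * v) * g := by group
        _ = g⁻¹ * (v * x) * g := by rw [hx]
        _ = _ := by group)
    calc x * (g * z * g⁻¹) = g * (g⁻¹ * x * g * z) * g⁻¹ := by group
      _ = g * (z * (g⁻¹ * x * g)) * g⁻¹ := by rw [h3]
      _ = g * z * g⁻¹ * x := by group

/-- the row of D4 / D9 without hypothesis on `C_G(K)` -/
theorem row_any : ∀ (G : Type u) [Group G], Ctx G → ∀ K : Subgroup G, Std0 G K →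
    Cut.Two (fun X _ => Cut.XL34 X) K → False :=
  fun _ _ C _ S h => false_of_l34 C S h.1 h.2

end Cfsg.Agent.OddHalf.D9.L34.RowAny
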