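import Cfsg.Agent.OddHalf.D9.L34.Cov

/-!
# Automorphisms of `2.L3(4)` and their codes
-/

set_option autoImplicit false
set_option linter.constructorNameAsVariable false
set_option linter.unusedVariables false

namespace Cfsg.Agent.OddHalf.D9.L34

open Cfsg.Agent.SporadicA.FieldFour
open Cfsg.Agent.ONType.Psl (kap)
open Cfsg.Agent.ONType.OuterL (rv rv_ne rv_rv)
open Cfsg.Agent.StdL34 (trF fr Ty imgx)

/-- drop the central part -/
def nk (p : Code) : Code := ⟨p.a, p.b, p.c, false⟩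

namespace Cov

variable {L : Type*} [Group L] {A : Cov L}

theorem hom_ext {β β' : MulAut L} (h : ∀ i j, i ≠ j → ∀ u, β (A.x i j u) = β' (A.x i j u)) :
    β = β' := by
  have key := MonoidHom.eq_of_eqOn_dense A.gen (f := β.toMonoidHom) (g := β'.toMonoidHom)
    (by rintro _ ⟨i, j, u, hij, rfl⟩; exact h i j hij u)
  ext y
  exact DFunLike.congr_fun key y

theorem IsTau.ext {τ : Ty} {β β' : MulAut L} (h : A.IsTau τ β) (h' : A.IsTau τ β') : β = β' :=
  hom_ext fun i j hij u => (h i j hij u).trans (h' i j hij u).symm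

theorem isTau_one : A.IsTau (false, false) 1 := fun i j hij u => rfl

theorem fr_fr (e e' : Bool) (u : F4) : fr e (fr e' u) = fr (xor e e') u := by
  revert e e' u; decide

theorem IsTau.mul {τ τ' : Ty} {β β' : MulAut L} (h : A.IsTau τ β) (h' : A.IsTau τ' β') :
    A.IsTau (τ.mul τ') (β * β') := by
  intro i j hij u
  rw [MulAut.mul_apply, h' i j hij u]
  obtain ⟨e, f⟩ := τ
  obtain ⟨e', f'⟩ := τ'
  have hr : rv j ≠ rv i := rv_ne (Ne.symm hij)
  cases f' <;> cases f
  · have := h i j hij (fr e' u)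
    simpa [imgx, Ty.mul, fr_fr] using this
  · have := h i j hij (fr e' u)
    simpa [imgx, Ty.mul, fr_fr] using this
  · have := h (rv j) (rv i) hr (fr e' u)
    simpa [imgx, Ty.mul, fr_fr] using this
  · have := h (rv j) (rv i) hr (fr e' u)
    simpa [imgx, Ty.mul, fr_fr, rv_rv] using this

theorem tyMul_self (τ : Ty) : τ.mul τ = (false, false) := by
  obtain ⟨e, f⟩ := τ
  cases e <;> cases f <;> rfl

theorem IsTau.sq {τ : Ty} {β : MulAut L} (h : A.IsTau τ β) : β * β = 1 := by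
  have := h.mul h
  rw [tyMul_self] at this
  exact this.ext isTau_one

theorem IsTau.inv {τ : Ty} {β : MulAut L} (h : A.IsTau τ β) : β⁻¹ = β :=
  inv_eq_of_mul_eq_one_left h.sq

theorem conj_map (β : MulAut L) (l : L) : MulAut.conj (β l) = β * MulAut.conj l * β⁻¹ := by
  ext y
  simp [MulAut.conj_apply, MulAut.mul_apply]

theorem IsTau.conj {τ : Ty} {β : MulAut L} (h : A.IsTau τ β) (p : Code) :
    MulAut.conj (A.el (ctau τ p)) = β * MulAut.conj (A.el p) * β⁻¹ := by
  rw [← conj_map, h.el]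

theorem el_nk (p : Code) : A.el p = A.el (nk p) * A.s p.k := by
  rw [A.el_eq, A.el_eq]
  show _ = A.x 0 1 p.a * A.x 1 2 p.b * A.x 0 2 p.c * A.s false * A.s p.k
  rw [A.s_false, mul_one]

theorem conj_s (k : Bool) : MulAut.conj (A.s k) = 1 := by
  ext y
  rw [MulAut.conj_apply, A.s_cen]; simp

theorem conj_nk (p : Code) : MulAut.conj (A.el p) = MulAut.conj (A.el (nk p)) := by
  rw [A.el_nk, map_mul, A.conj_s, mul_one]

variable (A) in
/-- `α` is `y ↦ p⁻¹ τ(y) p` -/
def Cd (α : MulAut L) (p : Code) (τ : Ty) : Prop := A.IsTau τ (MulAut.conj (A.el p) * α)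

theorem Cd.nk {α : MulAut L} {p : Code} {τ : Ty} (h : A.Cd α p τ) : A.Cd α (nk p) τ := by
  unfold Cd at *
  rwa [← conj_nk]

theorem Cd.apply {α : MulAut L} {p : Code} {τ : Ty} (h : A.Cd α p τ) (y : Code) :
    α (A.el y) = A.el (cact p τ y) := by
  have h1 := IsTau.el h y
  rw [MulAut.mul_apply, MulAut.conj_apply] at h1
  rw [cact, ← A.el_mul, ← A.el_mul, ← A.el_inv, ← h1]
  group

theorem IsTau.cd {τ : Ty} {β : MulAut L} (h : A.IsTau τ β) : A.Cd β cone τ := by
  unfold Cd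
  rwa [A.el_one, map_one, one_mul]

theorem Cd.mul {α β : MulAut L} {p q : Code} {τ ρ : Ty} (h : A.Cd α p τ) (h' : A.Cd β q ρ) :
    A.Cd (α * β) (cmul (ctau τ q) p) (τ.mul ρ) := by
  have key := IsTau.mul h h'
  have e1 := IsTau.conj h q
  unfold Cd
  rw [← A.el_mul, map_mul, e1]
  have e2 := IsTau.inv h
  convert key using 1
  rw [mul_inv_rev]
  group

theorem Cd.inv {α : MulAut L} {p : Code} {τ : Ty} (h : A.Cd α p τ) :
    A.Cd α⁻¹ (cinv (ctau τ p)) τ := by
  have e1 := IsTau.conj h p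
  have e2 := IsTau.inv h
  have e3 := IsTau.sq h
  unfold Cd at *
  rw [← A.el_inv, map_inv, e1]
  convert h using 1
  have e4 : (MulAut.conj (A.el p) * α) = (MulAut.conj (A.el p) * α)⁻¹ := e2.symm
  calc (MulAut.conj (A.el p) * α * MulAut.conj (A.el p) * (MulAut.conj (A.el p) * α)⁻¹)⁻¹ * α⁻¹
      = (MulAut.conj (A.el p) * α) * (MulAut.conj (A.el p))⁻¹ * (MulAut.conj (A.el p) * α)⁻¹ *
          α⁻¹ := by group
    _ = (MulAut.conj (A.el p) * α) * (MulAut.conj (A.el p))⁻¹ * (MulAut.conj (A.el p) * α) *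
          α⁻¹ := by rw [← e4]
    _ = _ := by group

theorem Cd.conj {α : MulAut L} {p : Code} {τ : Ty} (h : A.Cd α p τ) (q : Code) :
    A.Cd (MulAut.conj (A.el q) * α * (MulAut.conj (A.el q))⁻¹)
      (cmul (ctau τ q) (cmul p (cinv q))) τ := by
  have e1 := IsTau.conj h q
  unfold Cd at *
  rw [← A.el_mul, ← A.el_mul, ← A.el_inv, map_mul, map_mul, map_inv, e1]
  convert h using 1
  group

end Cov

end Cfsg.Agent.OddHalf.D9.L34
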