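import Cfsg.Agent.OddHalf.D9.L34.Code
import Cfsg.Agent.StdL34.Cov

/-!
# Abstract `2.L3(4)` with coordinates
-/

set_option autoImplicit false
set_option linter.constructorNameAsVariable false
set_option linter.unusedVariables false

namespace Cfsg.Agent.OddHalf.D9.L34

open Cfsg.Agent.SporadicA.FieldFour
open Cfsg.Agent.ONType.Psl (kap)
open Cfsg.Agent.ONType.OuterL (rv rv_ne rv_rv)
open Cfsg.Agent.StdL34 (trF fr Ty imgx)

/-- power of `z` -/
def zp {L : Type*} [Group L] (z : L) (k : Bool) : L := if k then z else 1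

/-- value of a code -/
def elx {L : Type*} [Group L] (x : Fin 3 → Fin 3 → F4 → L) (z : L) (p : Code) : L :=
  x 0 1 p.a * x 1 2 p.b * x 0 2 p.c * zp z p.k

/-- Coordinates on a perfect central extension of `PSL(3,4)` by `Z/2`. -/
structure Cov (L : Type*) [Group L] where
  z : L
  x : Fin 3 → Fin 3 → F4 → L
  h : L
  z_cen : ∀ m, z * m = m * z
  z_sq : z * z = 1
  x_add : ∀ i j, i ≠ j → ∀ u v, x i j u * x i j v = x i j (u + v)
  x_row : ∀ i j k, i ≠ j → i ≠ k → ∀ u v, x i j u * x i k v = x i k v * x i j u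
  x_col : ∀ i j k, i ≠ j → k ≠ j → ∀ u v, x i j u * x k j v = x k j v * x i j u
  x_sum : ∀ i j k, i ≠ j → i ≠ k → j ≠ k → ∀ u v,
    x i k u * x k j v = x k j v * x i k u * x i j (u * v) * zp z (trF (u * (v * v)))
  x_wey : ∀ i j k l, i ≠ j → k ≠ l → ∀ u,
    (x i j 1 * x j i 1 * x i j 1)⁻¹ * x k l u * (x i j 1 * x j i 1 * x i j 1)
      = x (Equiv.swap i j k) (Equiv.swap i j l) u
  h_pow : h ^ 3 = 1
  h_x : ∀ i j, i ≠ j → ∀ u, h⁻¹ * x i j u * h = x i j (kap i j * u)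
  h_eq : ∀ i j, i ≠ j →
    x i j (kap i j) * x j i (kap j i) * x i j (kap i j) * (x i j 1 * x j i 1 * x i j 1) = h
  el_inj : Function.Injective (elx x z)
  gen : Subgroup.closure {y | ∃ i j u, i ≠ j ∧ y = x i j u} = ⊤
  odd_index : ∃ T : Subgroup L, (∀ l, l ∈ T ↔ ∃ p, l = elx x z p) ∧ ¬ 2 ∣ T.index
  cent_mod : ∀ l k, l * x 0 2 1 = x 0 2 1 * l * zp z k → ∃ p, l = elx x z p
  center : ∀ k, (∀ m, k * m = m * k) ↔ k = 1 ∨ k = z
  r_ne : ∀ n : ℕ, (x 0 2 1 * x 2 0 1) ^ (2 ^ n) ≠ 1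
  outer : ∀ α : MulAut L, ∃ (l : L) (τ : Ty), ∀ i j, i ≠ j → ∀ u,
    l * α (x i j u) * l⁻¹ = imgx x τ i j u

namespace Cov

variable {L : Type*} [Group L] (A : Cov L)

/-- value of a code -/
def el (p : Code) : L := elx A.x A.z p

/-- power of `z` -/
def s (k : Bool) : L := zp A.z k

theorem s_true : A.s true = A.z := rfl

theorem s_false : A.s false = 1 := rfl

theorem s_mul (k l : Bool) : A.s k * A.s l = A.s (xor k l) := by
  cases k <;> cases l <;> simp [s_true, s_false, A.z_sq]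

theorem s_inv (k : Bool) : (A.s k)⁻¹ = A.s k := by
  apply inv_eq_of_mul_eq_one_right
  rw [A.s_mul, Bool.xor_self, s_false]

theorem s_cen (k : Bool) (m : L) : A.s k * m = m * A.s k := by
  cases k
  · rw [s_false, one_mul, mul_one]
  · exact A.z_cen m

theorem cent {l : L} (h : l * A.x 0 2 1 = A.x 0 2 1 * l) : ∃ p, l = elx A.x A.z p :=
  A.cent_mod l false (by rw [h]; exact (mul_one _).symm)

theorem el_eq (p : Code) : A.el p = A.x 0 1 p.a * A.x 1 2 p.b * A.x 0 2 p.c * A.s p.k := rfl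

theorem x_zero (i j : Fin 3) (h : i ≠ j) : A.x i j 0 = 1 := by
  have := A.x_add i j h 0 0
  rw [add_zero] at this
  exact mul_eq_left.mp this

theorem add_self (u : F4) : u + u = 0 := by revert u; decide

theorem x_sq (i j : Fin 3) (h : i ≠ j) (u : F4) : A.x i j u * A.x i j u = 1 := by
  rw [A.x_add i j h, add_self, A.x_zero i j h]

theorem x_inv (i j : Fin 3) (h : i ≠ j) (u : F4) : (A.x i j u)⁻¹ = A.x i j u :=
  inv_eq_of_mul_eq_one_left (A.x_sq i j h u)

theorem sum (i j k : Fin 3) (h1 : i ≠ j) (h2 : i ≠ k) (h3 : j ≠ k) (u v : F4) :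
    A.x i k u * A.x k j v = A.x k j v * A.x i k u * A.x i j (u * v) *
      A.s (trF (u * (v * v))) := A.x_sum i j k h1 h2 h3 u v

theorem swap' (b a : F4) : A.x 1 2 b * A.x 0 1 a =
    A.x 0 1 a * A.x 1 2 b * A.x 0 2 (a * b) * A.s (trF (a * (b * b))) := by
  have h := A.sum 0 2 1 (by decide) (by decide) (by decide) a b
  rw [h]
  have hi := A.x_sq 0 2 (by decide) (a * b)
  have hc := A.s_cen (trF (a * (b * b))) (A.x 0 2 (a * b))
  have hs : A.s (trF (a * (b * b))) * A.s (trF (a * (b * b))) = 1 := by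
    rw [A.s_mul, Bool.xor_self, s_false]
  calc A.x 1 2 b * A.x 0 1 a
      = A.x 1 2 b * A.x 0 1 a * (A.x 0 2 (a * b) * A.x 0 2 (a * b)) *
          (A.s (trF (a * (b * b))) * A.s (trF (a * (b * b)))) := by
        rw [hi, hs]; group
    _ = A.x 1 2 b * A.x 0 1 a * A.x 0 2 (a * b) * (A.x 0 2 (a * b) *
          A.s (trF (a * (b * b)))) * A.s (trF (a * (b * b))) := by group
    _ = _ := by rw [← hc]; group

theorem s_x' (m : L) (k : Bool) (i j : Fin 3) (u : F4) :
    m * A.s k * A.x i j u = m * A.x i j u * A.s k := by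
  rw [mul_assoc, A.s_cen, mul_assoc]

theorem s_mul' (m : L) (k l : Bool) : m * A.s k * A.s l = m * A.s (xor k l) := by
  rw [mul_assoc, A.s_mul]

theorem el_mul (p q : Code) : A.el p * A.el q = A.el (cmul p q) := by
  obtain ⟨a, b, c, k⟩ := p
  obtain ⟨a', b', c', k'⟩ := q
  simp only [el_eq, cmul]
  have e1 := A.x_row 0 2 1 (by decide) (by decide) c a'
  have e2 := A.swap' b a'
  have e3 := A.x_col 0 2 1 (by decide) (by decide) (a' * b + c) b'
  have a1 := A.x_add 0 1 (by decide) a a'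
  have a2 := A.x_add 1 2 (by decide) b b'
  have a3 := A.x_add 0 2 (by decide) (a' * b) c
  have a4 := A.x_add 0 2 (by decide) (a' * b + c) c'
  calc A.x 0 1 a * A.x 1 2 b * A.x 0 2 c * A.s k * (A.x 0 1 a' * A.x 1 2 b' * A.x 0 2 c' * A.s k')
      = A.x 0 1 a * A.x 1 2 b * (A.x 0 2 c * A.x 0 1 a') * A.x 1 2 b' * A.x 0 2 c' *
          A.s (xor k k') := by
        simp only [← mul_assoc, A.s_x', A.s_mul']
    _ = A.x 0 1 a * (A.x 1 2 b * A.x 0 1 a') * A.x 0 2 c * A.x 1 2 b' * A.x 0 2 c' *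
          A.s (xor k k') := by
        rw [e1]; simp only [← mul_assoc]
    _ = (A.x 0 1 a * A.x 0 1 a') * A.x 1 2 b * ((A.x 0 2 (a' * b) * A.x 0 2 c) * A.x 1 2 b') *
          A.x 0 2 c' * A.s (xor (trF (a' * (b * b))) (xor k k')) := by
        rw [e2]; simp only [← mul_assoc, A.s_x', A.s_mul']
    _ = (A.x 0 1 a * A.x 0 1 a') * (A.x 1 2 b * A.x 1 2 b') * (A.x 0 2 (a' * b + c) *
          A.x 0 2 c') * A.s (xor (trF (a' * (b * b))) (xor k k')) := by
        rw [a3, e3]; simp only [← mul_assoc]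
    _ = _ := by
        rw [a1, a2, a4, Bool.xor_comm]

theorem el_one : A.el cone = 1 := by
  simp only [el_eq, cone]
  rw [A.x_zero 0 1 (by decide), A.x_zero 1 2 (by decide), A.x_zero 0 2 (by decide), A.s_false]
  simp

theorem el_inv (p : Code) : (A.el p)⁻¹ = A.el (cinv p) := by
  apply inv_eq_of_mul_eq_one_right
  rw [A.el_mul, cmul_cinv, A.el_one]

theorem inj {p q : Code} (h : A.el p = A.el q) : p = q := A.el_inj h

theorem el_s (k : Bool) : A.el ⟨0, 0, 0, k⟩ = A.s k := by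
  simp only [el_eq]
  rw [A.x_zero 0 1 (by decide), A.x_zero 1 2 (by decide), A.x_zero 0 2 (by decide)]
  simp

theorem el_z : A.el ⟨0, 0, 0, true⟩ = A.z := A.el_s true

theorem el_x02 (c : F4) : A.el ⟨0, 0, c, false⟩ = A.x 0 2 c := by
  simp only [el_eq]
  rw [A.x_zero 0 1 (by decide), A.x_zero 1 2 (by decide), A.s_false]
  simp

theorem el_x01 (a : F4) : A.el ⟨a, 0, 0, false⟩ = A.x 0 1 a := by
  simp only [el_eq]
  rw [A.x_zero 0 2 (by decide), A.x_zero 1 2 (by decide), A.s_false]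
  simp

theorem el_x12 (b : F4) : A.el ⟨0, b, 0, false⟩ = A.x 1 2 b := by
  simp only [el_eq]
  rw [A.x_zero 0 1 (by decide), A.x_zero 0 2 (by decide), A.s_false]
  simp

theorem z_ne_one : A.z ≠ 1 := by
  intro h
  rw [← A.el_z, ← A.el_one] at h
  exact absurd (A.inj h) (by decide)

/-- the Sylow 2-subgroup -/
def T : Subgroup L where
  carrier := Set.range A.el
  mul_mem' := by
    rintro _ _ ⟨p, rfl⟩ ⟨q, rfl⟩
    exact ⟨_, (A.el_mul p q).symm⟩
  one_mem' := ⟨cone, A.el_one⟩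
  inv_mem' := by
    rintro _ ⟨p, rfl⟩
    exact ⟨_, (A.el_inv p).symm⟩

theorem mem_T {l : L} : l ∈ A.T ↔ ∃ p, A.el p = l := Iff.rfl

theorem el_mem (p : Code) : A.el p ∈ A.T := ⟨p, rfl⟩

theorem T_index : ¬ 2 ∣ A.T.index := by
  obtain ⟨T, hT, h2⟩ := A.odd_index
  have : T = A.T := by
    ext l; rw [hT, mem_T]
    exact ⟨fun ⟨p, hp⟩ => ⟨p, hp.symm⟩, fun ⟨p, hp⟩ => ⟨p, hp.symm⟩⟩
  rwa [this] at h2

/-- `β` acts on the coordinates exactly as the pure outer type `τ` -/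
def IsTau (τ : Ty) (β : MulAut L) : Prop :=
  ∀ i j, i ≠ j → ∀ u, β (A.x i j u) = imgx A.x τ i j u

theorem exists_tau (α : MulAut L) : ∃ (l : L) (τ : Ty), A.IsTau τ (MulAut.conj l * α) := A.outer α

variable {A}

theorem IsTau.x01 {τ : Ty} {β : MulAut L} (h : A.IsTau τ β) (u : F4) :
    β (A.x 0 1 u) = if τ.2 then A.x 1 2 (fr τ.1 u) else A.x 0 1 (fr τ.1 u) := h 0 1 (by decide) u

theorem IsTau.x12 {τ : Ty} {β : MulAut L} (h : A.IsTau τ β) (u : F4) :
    β (A.x 1 2 u) = if τ.2 then A.x 0 1 (fr τ.1 u) else A.x 1 2 (fr τ.1 u) := h 1 2 (by decide) u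

theorem IsTau.x02 {τ : Ty} {β : MulAut L} (h : A.IsTau τ β) (u : F4) :
    β (A.x 0 2 u) = A.x 0 2 (fr τ.1 u) := by
  have := h 0 2 (by decide) u
  rw [this, imgx]
  split <;> rfl

theorem IsTau.x20 {τ : Ty} {β : MulAut L} (h : A.IsTau τ β) (u : F4) :
    β (A.x 2 0 u) = A.x 2 0 (fr τ.1 u) := by
  have := h 2 0 (by decide) u
  rw [this, imgx]
  split <;> rfl

variable (A) in
/-- every automorphism fixes `z` -/
theorem aut_z (β : MulAut L) : β A.z = A.z := by
  have h1 : β A.z = 1 ∨ β A.z = A.z := by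
    rw [← A.center]
    intro m
    have := congrArg β (A.z_cen (β.symm m))
    rw [map_mul, map_mul, MulEquiv.apply_symm_apply] at this
    exact this
  rcases h1 with h1 | h1
  · rw [map_eq_one_iff _ β.injective] at h1
    exact absurd h1 A.z_ne_one
  · exact h1

theorem aut_s (β : MulAut L) (k : Bool) : β (A.s k) = A.s k := by
  cases k
  · rw [s_false, map_one]
  · exact A.aut_z β

theorem IsTau.el {τ : Ty} {β : MulAut L} (h : A.IsTau τ β) (p : Code) :
    β (A.el p) = A.el (ctau τ p) := by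
  rw [A.el_eq, map_mul, map_mul, map_mul, h.x01, h.x12, h.x02, aut_s]
  unfold ctau
  split
  · rw [← A.el_mul, ← A.el_mul, A.el_x12, A.el_x01]
    simp only [A.el_eq, A.x_zero 0 1 (by decide), A.x_zero 1 2 (by decide)]
    simp [mul_assoc]
  · rfl

end Cov

end Cfsg.Agent.OddHalf.D9.L34
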