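import Cfsg.Agent.OddHalf.D9.L34.Norm2
import Cfsg.Agent.OddHalf.D9.L34.Cov
import Cfsg.Agent.StdL34.PslCent
import Cfsg.Agent.ONType.OuterC

/-!
# Existence of coordinates on a perfect central extension of `PSL(3,4)` by `Z/2`
-/

set_option autoImplicit false
set_option linter.constructorNameAsVariable false
set_option linter.unusedVariables false

namespace Cfsg.Agent.OddHalf.D9.L34

open Subgroup
open Cfsg.Agent.SporadicA.FieldFour
open Cfsg.Agent.ONType.Psl
open Cfsg.Agent.ONType.Lift
open Cfsg.Agent.ONType.OuterL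
open Cfsg.Agent.ONType.OuterM (map_hh_one map_hh_two exists_induced)
open Cfsg.Agent.StdL34 (trF fr Ty imgx)

/-- the number of codes -/
theorem card_code : Nat.card Code = 128 := by
  have e : Code ≃ F4 × F4 × F4 × Bool :=
    { toFun := fun p => (p.a, p.b, p.c, p.k)
      invFun := fun q => ⟨q.1, q.2.1, q.2.2.1, q.2.2.2⟩
      left_inv := fun _ => rfl
      right_inv := fun _ => rfl }
  rw [Nat.card_congr e, Nat.card_prod, Nat.card_prod, Nat.card_prod, Nat.card_eq_fintype_card,
    F4.card_eq, Nat.card_eq_fintype_card, Fintype.card_bool]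

section

variable {M : Type*} [Group M] {π : M →* PSL3}

theorem zp_mul {z : M} (hzz : z * z = 1) (k l : Bool) : zp z k * zp z l = zp z (xor k l) := by
  cases k <;> cases l <;> simp [zp, hzz]

omit [Group M] in
theorem two_sums {M : Type*} [Group M] {x y p s s' : M} (hp : p * p = 1)
    (hs' : ∀ m : M, s' * m = m * s')
    (h1 : x * y = y * x * p * s) (h2 : y * x = x * y * p * s') : s' * s = 1 := by
  rw [h2] at h1
  have h3 : x * y * 1 = x * y * (p * (s' * p) * s) := by
    rw [mul_one]; nth_rewrite 1 [h1]; group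
  have h4 := mul_left_cancel h3
  rw [hs', ← mul_assoc, hp, one_mul] at h4
  exact h4.symm

theorem zp_inj {z : M} (hz1 : z ≠ 1) {k l : Bool} (h : zp z k = zp z l) : k = l := by
  revert h
  cases k <;> cases l <;> simp [zp, hz1, Ne.symm hz1]

/-- **Outer part.** -/
theorem exists_outer (C : CExt π) (hcen : ∀ k : M, (∀ m, k * m = m * k) → π k = 1)
    (z : M) (hz1 : z ≠ 1) (hzz : z * z = 1)
    (hsum : ∀ u v : F4, C.x 0 1 u * C.x 1 2 v =
      C.x 1 2 v * C.x 0 1 u * C.x 0 2 (u * v) * zp z (trF (u * (v * v))))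
    (hrow : ∀ u v : F4, C.x 0 1 u * C.x 0 2 v = C.x 0 2 v * C.x 0 1 u)
    (hcol : ∀ u v : F4, C.x 1 2 u * C.x 0 2 v = C.x 0 2 v * C.x 1 2 u)
    (hcz : ∀ m : M, z * m = m * z)
    (α : MulAut M) (hαz : ∀ m : M, (MulAut.conj m * α) z = z) :
    ∃ (m : M) (σ : F4 → F4), ((∀ u, σ u = u) ∨ (∀ u, σ u = u * u)) ∧
      ((∀ i j : Fin 3, i ≠ j → ∀ u : F4, (MulAut.conj m * α) (C.x i j u) = C.x i j (σ u)) ∨
       (∀ i j : Fin 3, i ≠ j → ∀ u : F4,
          (MulAut.conj m * α) (C.x i j u) = C.x (rv j) (rv i) (σ u))) := by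
  obtain ⟨β, hβ⟩ := exists_induced C hcen α
  obtain ⟨l, d, hd, σ, hσ⟩ := exists_std β
  obtain ⟨m, hm⟩ := C.surj l
  set γ : MulAut M := MulAut.conj m * α with hγ
  have hind : ∀ y, (MulAut.conj l * β) (π y) = π (γ y) := by
    intro y
    rw [hγ, MulAut.mul_apply, MulAut.mul_apply, MulAut.conj_apply, MulAut.conj_apply, hβ, map_mul,
      map_mul, map_inv, hm]
  have hσ' : (∀ u, (σ : F4 → F4) u = u) ∨ (∀ u, (σ : F4 → F4) u = u * u) := ringEquiv_eq σ
  -- effect on `h`
  have hh' : γ C.h = C.h ∨ γ C.h = (C.h)⁻¹ := by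
    have h1 : (MulAut.conj l * β) hh = hh ∨ (MulAut.conj l * β) hh = hh⁻¹ := by
      rcases hσ with h | h
      · exact map_hh_one _ hσ' h
      · exact map_hh_two _ hσ' h
    have h3 : (γ C.h) ^ 3 = 1 := by rw [← map_pow, C.h_pow, map_one]
    rw [← C.map_h, hind] at h1
    rcases h1 with h1 | h1
    · left; exact C.eq_of_cube h1 h3 C.h_pow
    · right
      refine C.eq_of_cube (by rw [h1, map_inv]) h3 (by rw [inv_pow, C.h_pow, inv_one])
  have hγz : ∀ k, γ (zp z k) = zp z k := by
    intro k
    cases k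
    · exact map_one γ
    · exact hαz m
  have hfin : ∀ d : F4, d ≠ 0 → (∀ u : F4, trF (d * u) = trF u) → d = 1 := by decide
  have hfin2 : ∀ d : F4, d ≠ 0 → (∀ u : F4, trF (d * (u * u)) = trF u) → d = 1 := by decide
  have hfinσ : (∀ u : F4, trF (d * σ u) = trF u) → d = 1 := by
    intro h
    rcases hσ' with hs | hs
    · exact hfin _ hd (fun u => by rw [← h u]; congr 2; exact (hs u).symm)
    · exact hfin2 _ hd (fun u => by rw [← h u]; congr 2; exact (hs u).symm)
  rcases hσ with hσ | hσ
  · have hx : ∀ i j : Fin 3, i ≠ j → ∀ u : F4,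
        γ (C.x i j u) = C.x i j (dd d i * (dd d j)⁻¹ * σ u) := by
      intro i j hij u
      exact C.x_map γ.toMonoidHom hh' hij hij (C.map_x i j hij u)
        (by
          show π (γ (C.x i j u)) = _
          rw [← hind, C.map_x i j hij u, hσ i j hij])
    have hd1 : d = 1 := by
      apply hfinσ
      intro u
      have h1 := congrArg γ (hsum u 1)
      rw [map_mul, map_mul, map_mul, map_mul, hγz, hx 0 1 (by decide), hx 1 2 (by decide),
        hx 0 2 (by decide), hsum] at h1
      have e1 : dd d 0 * (dd d 1)⁻¹ * σ u * (dd d 1 * (dd d 2)⁻¹ * σ 1) =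
          dd d 0 * (dd d 2)⁻¹ * σ (u * 1) := by
        rw [map_one, mul_one, mul_one]
        have : ∀ d x : F4, dd d 0 * (dd d 1)⁻¹ * x * (dd d 1 * (dd d 2)⁻¹) =
          dd d 0 * (dd d 2)⁻¹ * x := by decide
        exact this d _
      rw [e1] at h1
      have h2 := mul_left_cancel h1
      have h3 := zp_inj hz1 h2
      rw [mul_one, mul_one] at h3
      rw [← h3, map_one]
      congr 1
      have : ∀ d x : F4, d * x = dd d 0 * (dd d 1)⁻¹ * x *
        ((dd d 1 * (dd d 2)⁻¹ * 1) * (dd d 1 * (dd d 2)⁻¹ * 1)) := by decide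
      exact this d _
    refine ⟨m, σ, hσ', Or.inl ?_⟩
    intro i j hij u
    rw [← hγ, hx i j hij u, hd1]
    congr 1
    have : ∀ i j : Fin 3, dd 1 i * (dd 1 j)⁻¹ = 1 := by decide
    rw [this, one_mul]
  · have hx : ∀ i j : Fin 3, i ≠ j → ∀ u : F4,
        γ (C.x i j u) = C.x (rv j) (rv i) (dd d (rv j) * (dd d (rv i))⁻¹ * σ u) := by
      intro i j hij u
      exact C.x_map γ.toMonoidHom hh' hij (rv_ne hij.symm) (C.map_x i j hij u)
        (by
          show π (γ (C.x i j u)) = _
          rw [← hind, C.map_x i j hij u, hσ i j hij])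
    have hd1 : d = 1 := by
      apply hfinσ
      intro u
      have h1 := congrArg γ (hsum 1 u)
      rw [map_mul, map_mul, map_mul, map_mul, hγz, hx 0 1 (by decide), hx 1 2 (by decide),
        hx 0 2 (by decide)] at h1
      change C.x 1 2 _ * C.x 0 1 _ = C.x 0 1 _ * C.x 1 2 _ * C.x 0 2 _ * _ at h1
      have e0 : ∀ d x : F4, dd d (rv 1) * (dd d (rv 0))⁻¹ * x = x := by decide
      have e1 : ∀ d x : F4, dd d (rv 2) * (dd d (rv 1))⁻¹ * x = d * x := by decide
      have e2 : ∀ d x : F4, dd d (rv 2) * (dd d (rv 0))⁻¹ * x = d * x := by decide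
      rw [e0, e1, e2, map_one] at h1
      have h2 := hsum (d * σ u) 1
      have e3 : d * σ (1 * u) = d * σ u * 1 := by rw [one_mul, mul_one]
      rw [e3] at h1
      have hp : C.x 0 2 (d * σ u * 1) * C.x 0 2 (d * σ u * 1) = 1 := C.x_sq 0 2 (by decide) _
      have hzc : ∀ m : M, zp z (trF (1 * (u * u))) * m = m * zp z (trF (1 * (u * u))) := by
        intro m
        cases trF (1 * (u * u))
        · simp [zp]
        · exact hcz m
      have h3 := two_sums hp hzc h2 h1
      rw [zp_mul hzz] at h3
      have h4 : xor (trF (1 * (u * u))) (trF (d * σ u * (1 * 1))) = false := zp_inj hz1 h3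
      have h5 : ∀ u : F4, trF (1 * (u * u)) = trF u := by decide
      rw [h5 u, mul_one, mul_one] at h4
      revert h4
      cases trF u <;> cases trF (d * σ u) <;> simp
    refine ⟨m, σ, hσ', Or.inr ?_⟩
    intro i j hij u
    rw [← hγ, hx i j hij u, hd1]
    congr 1
    have : ∀ i j : Fin 3, dd 1 i * (dd 1 j)⁻¹ = 1 := by decide
    rw [this, one_mul]

/-- coordinates from normalised data -/
theorem exists_cov_of [Finite M] (C : CExt π) (z : M) (hker : ∀ k : M, π k = 1 ↔ k = 1 ∨ k = z)
    (hz1 : z ≠ 1) (hperf : commutator M = ⊤)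
    (hcen : ∀ k : M, (∀ m, k * m = m * k) → π k = 1)
    (hg1 : C.g 1 = 1) (hgω : C.g ω = z) (hgω2 : C.g ω2 = z) :
    ∃ A : Cov M, A.z = z := by
  classical
  have hπz : π z = 1 := (hker z).2 (Or.inr rfl)
  have hcz : ∀ m : M, z * m = m * z := C.cen z hπz
  have hzz : z * z = 1 := by
    have h1 : π (z * z) = 1 := by rw [map_mul, hπz, one_mul]
    rcases (hker _).1 h1 with h | h
    · exact h
    · exact absurd (mul_eq_left.mp h) hz1
  have h2 : ∀ k : M, π k = 1 → k * k = 1 := by
    intro k hk
    rcases (hker k).1 hk with rfl | rfl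
    · exact one_mul 1
    · exact hzz
  have hf := Norm2.f_eq_one C h2
  have hg : ∀ s, C.g s = zp z (trF s) := by
    intro s
    cases s
    · exact C.g_zero
    · exact hg1
    · exact hgω
    · exact hgω2
  have hcard : Nat.card π.ker = 2 := by
    have e : (π.ker : Set M) = {1, z} := by
      ext k
      exact hker k
    have h3 : Nat.card π.ker = (π.ker : Set M).ncard := rfl
    rw [h3, e]
    exact Set.ncard_pair (Ne.symm hz1)
  have hπel : ∀ p : Code, π (elx C.x z p) = t 0 1 p.a * t 1 2 p.b * t 0 2 p.c := by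
    intro p
    have : π (zp z p.k) = 1 := by
      cases p.k
      · exact map_one π
      · exact hπz
    unfold elx
    rw [map_mul, map_mul, map_mul, this, mul_one, C.map_x 0 1 (by decide),
      C.map_x 1 2 (by decide), C.map_x 0 2 (by decide)]
  have hinj : Function.Injective (elx C.x z) := by
    intro p q h
    have h1 := congrArg π h
    rw [hπel, hπel] at h1
    obtain ⟨ha, hb, hc⟩ := Cfsg.Agent.ONType.PslCard.t_inj h1
    have hk : zp z p.k = zp z q.k := by
      unfold elx at h
      rw [ha, hb, hc] at h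
      exact mul_left_cancel h
    have hk' : p.k = q.k := zp_inj hz1 hk
    cases p; cases q
    simp only at ha hb hc hk'
    subst ha hb hc hk'
    rfl
  have hmem : ∀ l : M, π l * t 0 2 1 = t 0 2 1 * π l ↔ ∃ p, l = elx C.x z p := by
    intro l
    rw [Cfsg.Agent.StdL34.PslCent.cent_t02]
    constructor
    · rintro ⟨a, b, c, h⟩
      have h1 : π ((elx C.x z ⟨a, b, c, false⟩)⁻¹ * l) = 1 := by
        rw [map_mul, map_inv, hπel, h, inv_mul_cancel]
      have h3 : ∃ k, l = elx C.x z ⟨a, b, c, false⟩ * zp z k := by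
        rcases (hker _).1 h1 with h | h
        · exact ⟨false, by rw [inv_mul_eq_iff_eq_mul] at h; exact h⟩
        · exact ⟨true, by rw [inv_mul_eq_iff_eq_mul] at h; exact h⟩
      obtain ⟨k, hk⟩ := h3
      refine ⟨⟨a, b, c, k⟩, ?_⟩
      rw [hk]
      unfold elx
      simp [zp]
    · rintro ⟨p, rfl⟩
      exact ⟨p.a, p.b, p.c, hπel p⟩
  have hsum : ∀ i j k : Fin 3, i ≠ j → i ≠ k → j ≠ k → ∀ u v : F4,
      C.x i k u * C.x k j v = C.x k j v * C.x i k u * C.x i j (u * v) *
        zp z (trF (u * (v * v))) := by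
    intro i j k h1 h2 h3 u v
    rw [C.rel_sum i j k h1 h2 h3, hg, ← mul_assoc]
  have hrow : ∀ i j k : Fin 3, i ≠ j → i ≠ k → ∀ u v : F4,
      C.x i j u * C.x i k v = C.x i k v * C.x i j u := by
    intro i j k h1 h2 u v
    rcases eq_or_ne j k with rfl | h3
    · rw [C.x_add i j h1, C.x_add i j h1, add_comm]
    · rw [C.rel_row i j k h1 h2 h3, hf, mul_one]
  have hcol : ∀ i j k : Fin 3, i ≠ j → k ≠ j → ∀ u v : F4,
      C.x i j u * C.x k j v = C.x k j v * C.x i j u := by
    intro i j k h1 h2 u v
    rcases eq_or_ne i k with rfl | h3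
    · rw [C.x_add i j h1, C.x_add i j h1, add_comm]
    · rw [C.rel_col i j k h1 h3 (Ne.symm h2), hf, mul_one]
  refine ⟨{ z := z, x := C.x, h := C.h, z_cen := hcz, z_sq := hzz,
            x_add := fun i j hij u v => C.x_add i j hij u v, x_row := hrow, x_col := hcol,
            x_sum := hsum, x_wey := fun i j k l h1 h2 u => C.n_conj_x i j k l h1 h2 u,
            h_pow := C.h_pow, h_x := fun i j hij u => C.h_conj_x i j hij u,
            h_eq := fun i j hij => C.h_eq i j hij, el_inj := hinj, gen := ?_, odd_index := ?_,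
            cent_mod := ?_, center := ?_, r_ne := ?_, outer := ?_ }, rfl⟩
  · exact Cfsg.Agent.ONType.OuterC.closure_x C hperf
  · refine ⟨(centralizer ({t 0 2 1} : Set PSL3)).comap π, ?_, ?_⟩
    · intro l
      rw [mem_comap, mem_centralizer_singleton_iff]
      exact hmem l
    · have hcard' : Nat.card ((centralizer ({t 0 2 1} : Set PSL3)).comap π) = 128 := by
        rw [← card_code]
        symm
        apply Nat.card_congr
        refine Equiv.ofBijective (fun p => ⟨elx C.x z p, ?_⟩) ⟨?_, ?_⟩
        · rw [mem_comap, mem_centralizer_singleton_iff]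
          exact (hmem _).2 ⟨p, rfl⟩
        · intro p q h
          exact hinj (congrArg Subtype.val h)
        · rintro ⟨l, hl⟩
          rw [mem_comap, mem_centralizer_singleton_iff] at hl
          obtain ⟨p, hp⟩ := (hmem _).1 hl
          exact ⟨p, Subtype.ext hp.symm⟩
      have hM : Nat.card M = 40320 := by
        rw [C.card_M, hcard]
      have h1 := Subgroup.card_mul_index ((centralizer ({t 0 2 1} : Set PSL3)).comap π)
      rw [hcard', hM] at h1
      omega
  · intro l k hl
    apply (hmem l).1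
    have hk : π (zp z k) = 1 := by
      cases k
      · exact map_one π
      · exact hπz
    have := congrArg π hl
    rw [map_mul, map_mul, map_mul, hk, mul_one, C.map_x 0 2 (by decide)] at this
    exact this
  · intro k
    rw [← hker k]
    exact ⟨hcen k, fun h => C.cen k h⟩
  · intro n h
    have := congrArg π h
    rw [map_pow, map_mul, C.map_x 0 2 (by decide), C.map_x 2 0 (by decide), map_one] at this
    exact Cfsg.Agent.StdL34.PslCent.tt_pow_ne n this
  · intro α
    have hαz : α z = z := by
      have h1 : π (α z) = 1 := by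
        apply hcen
        intro m
        have := congrArg α (hcz (α.symm m))
        rw [map_mul, map_mul, MulEquiv.apply_symm_apply] at this
        exact this
      rcases (hker _).1 h1 with h | h
      · rw [map_eq_one_iff _ α.injective] at h
        exact absurd h hz1
      · exact h
    obtain ⟨l, σ, hσ, hx⟩ := exists_outer C hcen z hz1 hzz
      (hsum 0 2 1 (by decide) (by decide) (by decide))
      (hrow 0 1 2 (by decide) (by decide)) (hcol 1 2 0 (by decide) (by decide)) hcz α
      (fun l => by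
        rw [MulAut.mul_apply, MulAut.conj_apply, hαz]
        rw [← hcz l, mul_assoc, mul_inv_cancel, mul_one])
    have hσ' : ∃ e : Bool, ∀ u, σ u = fr e u := by
      rcases hσ with h | h
      · exact ⟨false, fun u => by rw [h]; rfl⟩
      · exact ⟨true, fun u => by rw [h]; rfl⟩
    obtain ⟨e, he⟩ := hσ'
    rcases hx with hx | hx
    · refine ⟨l, (e, false), fun i j hij u => ?_⟩
      have := hx i j hij u
      rw [MulAut.mul_apply, MulAut.conj_apply, he] at this
      exact this
    · refine ⟨l, (e, true), fun i j hij u => ?_⟩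
      have := hx i j hij u
      rw [MulAut.mul_apply, MulAut.conj_apply, he] at this
      exact this

end

/-- **Existence of coordinates.** -/
theorem exists_cov {M : Type*} [Group M] [Finite M]
    (hZ2 : Nat.card (Subgroup.center M) = 2) (hperf : commutator M = ⊤)
    {F : Type*} [Field F] [Fintype F] (hF : Fintype.card F = 4)
    (e : M ⧸ Subgroup.center M ≃* Matrix.ProjectiveSpecialLinearGroup (Fin 3) F) :
    ∃ A : Cov M, Subgroup.center M = zpowers A.z ∧ orderOf A.z = 2 ∧ Nat.card M = 40320 := by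
  obtain ⟨e'⟩ := nonempty_psl_equiv (n := Fin 3) F hF
  set π : M →* PSL3 :=
    (e'.symm.toMonoidHom.comp e.toMonoidHom).comp (QuotientGroup.mk' (Subgroup.center M)) with hπ
  have hker : π.ker = Subgroup.center M := by
    ext k
    constructor
    · intro hk
      have h1 : e'.symm (e (QuotientGroup.mk' (Subgroup.center M) k)) = 1 := hk
      rw [map_eq_one_iff _ e'.symm.injective, map_eq_one_iff _ e.injective] at h1
      exact (QuotientGroup.eq_one_iff k).mp h1
    · intro hk
      have h1 : (QuotientGroup.mk' (Subgroup.center M) k) = 1 := (QuotientGroup.eq_one_iff k).mpr hk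
      show e'.symm (e (QuotientGroup.mk' (Subgroup.center M) k)) = 1
      rw [h1, map_one, map_one]
  have h2 : ∀ k ∈ Subgroup.center M, k * k = 1 := by
    intro k hk
    have h4 := pow_card_eq_one' (G := Subgroup.center M) (x := ⟨k, hk⟩)
    rw [hZ2, pow_two] at h4
    exact congrArg Subtype.val h4
  have C : CExt π :=
    { surj := by
        have h1 : Function.Surjective (QuotientGroup.mk' (Subgroup.center M)) :=
          QuotientGroup.mk'_surjective _
        exact (e'.symm.surjective.comp e.surjective).comp h1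
      cen := by
        intro k hk m
        have : k ∈ Subgroup.center M := by rw [← hker]; exact hk
        exact (Subgroup.mem_center_iff.mp this m).symm
      exp := by
        intro k hk
        have : k ∈ Subgroup.center M := by rw [← hker]; exact hk
        have h5 := h2 k this
        have h6 : k ^ 4 = (k ^ 2) ^ 2 := (pow_mul k 2 2)
        rw [h6, pow_two k, h5, one_pow] }
  obtain ⟨z, hz1, hzall⟩ := Nat.card_eq_two_iff' (1 : Subgroup.center M) |>.1 hZ2
  have hz1' : (z : M) ≠ 1 := fun h => hz1 (Subtype.ext h)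
  have hall : ∀ k : M, k ∈ Subgroup.center M ↔ k = 1 ∨ k = z := by
    intro k
    constructor
    · intro hk
      rcases eq_or_ne (⟨k, hk⟩ : Subgroup.center M) 1 with h | h
      · exact Or.inl (congrArg Subtype.val h)
      · exact Or.inr (congrArg Subtype.val (hzall _ h))
    · rintro (rfl | rfl)
      · exact one_mem _
      · exact z.2
  have hkz : ∀ k : M, π k = 1 ↔ k = 1 ∨ k = z := by
    intro k
    rw [← hall k, ← hker]
    rfl
  obtain ⟨π', C', hk', h1, h3, h4⟩ := Norm2.exists_normalized C hperf hkz hz1'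
  have hkz' : ∀ k : M, π' k = 1 ↔ k = 1 ∨ k = z := by
    intro k
    rw [← hkz k]
    have e1 : π' k = 1 ↔ k ∈ π'.ker := Iff.rfl
    rw [e1, hk']
    rfl
  obtain ⟨A, hA⟩ := exists_cov_of C' (z : M) hkz' hz1' hperf (by
    intro k hk
    rw [hkz', ← hall, Subgroup.mem_center_iff]
    exact fun m => (hk m).symm) h1 h3 h4
  have ho : orderOf (z : M) = 2 := by
    rw [orderOf_eq_prime_iff]
    exact ⟨by rw [pow_two]; exact h2 _ z.2, hz1'⟩
  refine ⟨A, ?_, by rw [hA, ho], ?_⟩
  · rw [hA]
    symm
    apply Subgroup.eq_of_le_of_card_ge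
    · rw [zpowers_le]; exact z.2
    · rw [hZ2, Nat.card_zpowers, ho]
  · rw [C.card_M, hker, hZ2]

end Cfsg.Agent.OddHalf.D9.L34
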