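import Cfsg.Agent.OddHalf.D9.L34.Inner
import Cfsg.Agent.OddHalf.D9.DoubleKill

/-!
# The inner part of `KFacts` for `2.L3(4)`

`inner_facts`: everything in `DoubleKill.KFacts A.z 32` except `el`, `out`, `exp2`.
-/

set_option autoImplicit false
set_option linter.constructorNameAsVariable false
set_option linter.unusedVariables false

namespace Cfsg.Agent.OddHalf.D9.L34

open Subgroup
open Cfsg.Agent.SporadicA.FieldFour
open Cfsg.Agent.OddHalf.D9.CharSylow (J Elem)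

namespace Cov

variable {L : Type*} [Group L] (A : Cov L)

theorem not_dvd_index [Finite L] (S : Sylow 2 L) : ¬ 2 ∣ (S : Subgroup L).index := by
  have : Fact (Nat.Prime 2) := ⟨Nat.prime_two⟩
  exact S.not_dvd_index

theorem fact_sq [Finite L] (S : Sylow 2 L) (e : L) (he : e ∈ S) (h1 : e ≠ 1)
    (hz : e ≠ A.z) (hc : ∀ s ∈ S, s * e = e * s) : ∃ y ∈ S, y * y = e := by
  obtain ⟨y, hy, h⟩ := A.exists_sqrt (S : Subgroup L) S.isPGroup' (not_dvd_index S) he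
    (fun y hy => (hc y hy).symm) h1 hz
  exact ⟨y, hy, h⟩

include A in
theorem fact_gen [Finite L] (S : Sylow 2 L) : (S : Subgroup L) ≤ J 32 (S : Subgroup L) := by
  apply A.le_of_e32 (S : Subgroup L) S.isPGroup' (not_dvd_index S)
  intro E hE hc hsq x hx
  exact subset_closure ⟨E, hE, ⟨hc, hsq⟩, hx⟩

/-- the three distinguished involutions -/
def trip (l : L) : Set L := {w | ∃ c : F4, c ≠ 0 ∧ w = l * A.x 0 2 c * l⁻¹}

theorem card_trip (l : L) : Nat.card (A.trip l) = 3 := by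
  have h1 : Nat.card {c : F4 // c ≠ 0} = 3 := by
    rw [Nat.card_eq_fintype_card]; decide
  rw [← h1]
  symm
  apply Nat.card_congr
  refine Equiv.ofBijective (fun c => ⟨l * A.x 0 2 c.1 * l⁻¹, c.1, c.2, rfl⟩) ⟨?_, ?_⟩
  · rintro ⟨c, hc⟩ ⟨c', hc'⟩ h
    have h2 : l * A.x 0 2 c * l⁻¹ = l * A.x 0 2 c' * l⁻¹ := congrArg Subtype.val h
    have h3 := mul_left_cancel (mul_right_cancel h2)
    rw [← A.el_x02, ← A.el_x02] at h3
    have h4 := A.inj h3
    simp only [Code.mk.injEq] at h4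
    exact Subtype.ext h4.2.2.1
  · rintro ⟨w, c, hc, rfl⟩
    exact ⟨⟨c, hc⟩, rfl⟩

theorem fact_fix [Finite L] (S : Sylow 2 L) (B : Subgroup (MulAut L)) (hB : IsPGroup 2 B)
    (hS : ∀ α ∈ B, ∀ s ∈ S, α s ∈ S) (e : L) (he : e * e = 1) (h1 : e ≠ 1)
    (hz : e ≠ A.z) : ∃ k, ∀ α ∈ B, α (k * e * k⁻¹) = k * e * k⁻¹ := by
  have : Fact (Nat.Prime 2) := ⟨Nat.prime_two⟩
  obtain ⟨l, hl⟩ := A.exists_conj_T_iff (S : Subgroup L) S.isPGroup' (not_dvd_index S)
  have hl' : ∀ y, y ∈ A.T ↔ l * y * l⁻¹ ∈ S := by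
    intro y
    have := hl (l * y * l⁻¹)
    have e1 : l⁻¹ * (l * y * l⁻¹) * l = y := by group
    rw [e1] at this
    exact this.symm
  -- automorphisms in `B` permute the triple
  have htrip : ∀ α ∈ B, ∀ c : F4, c ≠ 0 →
      ∃ c', c' ≠ 0 ∧ α (l * A.x 0 2 c * l⁻¹) = l * A.x 0 2 c' * l⁻¹ := by
    intro α hα c hc
    have hiff : ∀ s, s ∈ S ↔ α s ∈ S := by
      intro s
      refine ⟨hS α hα s, fun h => ?_⟩
      have := hS α⁻¹ (B.inv_mem hα) _ h
      rwa [MulAut.inv_apply_self] at this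
    obtain ⟨c', hc', h⟩ := A.aut_x02 (MulAut.conj l⁻¹ * α * MulAut.conj l) (by
      intro y
      rw [hl', hl' ((MulAut.conj l⁻¹ * α * MulAut.conj l) y), hiff]
      rw [MulAut.mul_apply, MulAut.mul_apply, MulAut.conj_apply, MulAut.conj_apply]
      have e1 : l * (l⁻¹ * α (l * y * l⁻¹) * l⁻¹⁻¹) * l⁻¹ = α (l * y * l⁻¹) := by group
      rw [e1]) hc
    refine ⟨c', hc', ?_⟩
    rw [← h, MulAut.mul_apply, MulAut.mul_apply, MulAut.conj_apply, MulAut.conj_apply]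
    group
  let W : SubMulAction B L :=
    { carrier := A.trip l
      smul_mem' := by
        rintro ⟨α, hα⟩ x ⟨c, hc, rfl⟩
        obtain ⟨c', hc', h⟩ := htrip α hα c hc
        exact ⟨c', hc', h⟩ }
  have hcard : Nat.card W = 3 := A.card_trip l
  obtain ⟨⟨w, c, hc, rfl⟩, hfix⟩ := hB.nonempty_fixed_point_of_prime_not_dvd_card W
    (by rw [hcard]; decide)
  have hfix' : ∀ α ∈ B, α (l * A.x 0 2 c * l⁻¹) = l * A.x 0 2 c * l⁻¹ := by
    intro α hα
    have := (MulAction.mem_fixedPoints.1 hfix) ⟨α, hα⟩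
    exact congrArg (Subtype.val) this
  obtain ⟨m, k, hm⟩ := A.inv_conj he h1 hz hc
  refine ⟨l * m⁻¹, fun α hα => ?_⟩
  have e1 : l * m⁻¹ * e * (l * m⁻¹)⁻¹ = l * A.x 0 2 c * l⁻¹ * A.s k := by
    have : l * m⁻¹ * e * (l * m⁻¹)⁻¹ = l * (m⁻¹ * e * m) * l⁻¹ := by group
    rw [this, hm]
    calc l * (A.x 0 2 c * A.s k) * l⁻¹ = l * A.x 0 2 c * (A.s k * l⁻¹) := by group
      _ = l * A.x 0 2 c * (l⁻¹ * A.s k) := by rw [A.s_cen]
      _ = _ := by group
  rw [e1, map_mul, hfix' α hα, aut_s]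

end Cov

/-- everything in `KFacts A.z 32` except the outer facts -/
theorem kfacts_of {L : Type*} [Group L] [Finite L] (A : Cov L)
    (el : ∀ B : Subgroup (MulAut L), (∀ α ∈ B, α * α = 1) → 32 ≤ 2 * Nat.card B →
      ∀ α ∈ B, ∃ k, α = MulAut.conj k)
    (out : ∀ α : MulAut L, α * α = 1 → (∀ k, α ≠ MulAut.conj k) →
      ∃ k, α k * k⁻¹ ≠ 1 ∧ α k * k⁻¹ ∈ closure {x | ∃ y, α y = y ∧ y * y = x})
    (exp2 : ∀ α : MulAut L, ∃ k, α * α = MulAut.conj k) :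
    DoubleKill.KFacts A.z 32 where
  zz := A.z_sq
  z1 := A.z_ne_one
  zc := fun y => (A.z_cen y).symm
  cen := fun x hx => (A.center x).1 hx
  nosq := A.no_sqrt
  sq := fun S e he _ h1 hz hc => A.fact_sq S e he h1 hz hc
  gen := A.fact_gen
  fix := fun S B hB hS _ e he h1 hz => A.fact_fix S B hB hS e he h1 hz
  el := el
  out := out
  exp2 := exp2

end Cfsg.Agent.OddHalf.D9.L34
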