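import Cfsg.Agent.OddHalf.D9.L34.OutFacts

/-!
# The outer facts of `2.L3(4)` in the form of `DoubleKill.KFacts` (`n = 32`)
-/

set_option autoImplicit false

namespace Cfsg.Agent.OddHalf.D9.L34.OutK

open Subgroup

variable {L : Type*} [Group L]

/-- (F5) -/
theorem el (hperf : commutator L = ⊤) (D : LThreeFour.Dat (L ⧸ center L)) (E : Subgroup (MulAut L))
    (hE : ∀ α ∈ E, α * α = 1) (hc : 32 ≤ 2 * Nat.card E) : ∀ α ∈ E, ∃ k, α = MulAut.conj k :=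
  elab_inner hperf D E hE (by omega)

/-- (F6) -/
theorem out (A : Cov L) (α : MulAut L) (h2 : α * α = 1) (ho : ∀ k, α ≠ MulAut.conj k) :
    ∃ k, α k * k⁻¹ ≠ 1 ∧ α k * k⁻¹ ∈ closure {x | ∃ y, α y = y ∧ y * y = x} := by
  obtain ⟨k, h1, h3⟩ := A.exists_square α h2 ho
  refine ⟨k, h1, ?_⟩
  have h4 : Cov.Sq α ≤ closure {x | ∃ y, α y = y ∧ y * y = x} := by
    rw [Cov.Sq, closure_le]
    rintro _ ⟨q, hq, rfl⟩
    exact subset_closure ⟨q, hq, rfl⟩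
  exact h4 h3

/-- (F7) -/
theorem exp2 (A : Cov L) (α : MulAut L) : ∃ k, α * α = MulAut.conj k := A.sq_inner α

end Cfsg.Agent.OddHalf.D9.L34.OutK
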