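import Cfsg.Agent.OddHalf.D9.AnyC
import Cfsg.Agent.OddHalf.D9.L34.OutK
import Cfsg.Agent.OddHalf.D9.L34.InnerFacts
import Cfsg.Agent.OddHalf.D9.L34.Exists
import Cfsg.Agent.StdLThreeFour.Facts3

/-!
# `2.L3(4)`: the facts `AnyC.CFacts` (`m = 16`)
-/

set_option autoImplicit false
set_option linter.constructorNameAsVariable false
set_option linter.unusedVariables false

namespace Cfsg.Agent.OddHalf.D9.L34

open Subgroup
open Cfsg.Agent.SporadicA.FieldFour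
open Cfsg.Agent.OddHalf.Table (quoAut eq_one_of_quoAut_eq_one)
open scoped commutatorElement

/-- code of `[x₀₁(u), x₁₂(v)]` -/
def ccode (u v : F4) : Code :=
  cmul (cmul (cmul ⟨u, 0, 0, false⟩ ⟨0, v, 0, false⟩) (cinv ⟨u, 0, 0, false⟩)) (cinv ⟨0, v, 0, false⟩)

theorem code_z : cmul (ccode 1 1) (ccode F4.v F4.w) = ⟨0, 0, 0, true⟩ := by decide +kernel

theorem code_comm_a (p q : Code) : (cmul (cmul (cmul p q) (cinv p)) (cinv q)).a = 0 ∧
    (cmul (cmul (cmul p q) (cinv p)) (cinv q)).b = 0 := by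
  obtain ⟨a, b, c, k⟩ := p
  obtain ⟨a', b', c', k'⟩ := q
  constructor
  · show a + a' + a + a' = 0
    have : ∀ a a' : F4, a + a' + a + a' = 0 := by decide
    exact this _ _
  · show b + b' + b + b' = 0
    have : ∀ a a' : F4, a + a' + a + a' = 0 := by decide
    exact this _ _

namespace Cov

variable {L : Type*} [Group L] (A : Cov L)

/-- the centre of `T` -/
def ZT : Subgroup L where
  carrier := {y | ∃ p : Code, p.a = 0 ∧ p.b = 0 ∧ A.el p = y}
  mul_mem' := by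
    rintro _ _ ⟨p, hpa, hpb, rfl⟩ ⟨q, hqa, hqb, rfl⟩
    refine ⟨cmul p q, ?_, ?_, (A.el_mul p q).symm⟩
    · show p.a + q.a = 0
      rw [hpa, hqa, add_zero]
    · show p.b + q.b = 0
      rw [hpb, hqb, add_zero]
  one_mem' := ⟨cone, rfl, rfl, A.el_one⟩
  inv_mem' := by
    rintro _ ⟨p, hpa, hpb, rfl⟩
    exact ⟨cinv p, hpa, hpb, (A.el_inv p).symm⟩

theorem comm_el (p q : Code) : ⁅A.el p, A.el q⁆ = A.el (cmul (cmul (cmul p q) (cinv p)) (cinv q)) := by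
  rw [commutatorElement_def, A.el_inv, A.el_inv, A.el_mul, A.el_mul, A.el_mul]

theorem comm_T_le : ⁅A.T, A.T⁆ ≤ A.ZT := by
  rw [commutator_le]
  rintro _ ⟨p, rfl⟩ _ ⟨q, rfl⟩
  rw [A.comm_el]
  exact ⟨_, (code_comm_a p q).1, (code_comm_a p q).2, rfl⟩

theorem z_mem_comm : A.z ∈ ⁅A.T, A.T⁆ := by
  have h1 : ⁅A.el ⟨1, 0, 0, false⟩, A.el ⟨0, 1, 0, false⟩⁆ ∈ ⁅A.T, A.T⁆ :=
    commutator_mem_commutator (A.el_mem _) (A.el_mem _)
  have h2 : ⁅A.el ⟨F4.v, 0, 0, false⟩, A.el ⟨0, F4.w, 0, false⟩⁆ ∈ ⁅A.T, A.T⁆ :=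
    commutator_mem_commutator (A.el_mem _) (A.el_mem _)
  have h3 := mul_mem h1 h2
  rw [A.comm_el, A.comm_el, A.el_mul] at h3
  have h4 : A.el (cmul (ccode 1 1) (ccode F4.v F4.w)) = A.z := by rw [code_z, A.el_z]
  rw [← h4]
  exact h3

theorem exists_map [Finite L] (S : Sylow 2 L) :
    ∃ l : L, (S : Subgroup L) = A.T.map (MulAut.conj l).toMonoidHom := by
  obtain ⟨l, hl⟩ := A.exists_conj_T_iff (S : Subgroup L) S.isPGroup' (not_dvd_index S)
  refine ⟨l, ?_⟩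
  ext y
  rw [hl]
  constructor
  · intro h
    refine ⟨_, h, ?_⟩
    show l * (l⁻¹ * y * l) * l⁻¹ = y
    group
  · rintro ⟨t, ht, rfl⟩
    have : l⁻¹ * ((MulAut.conj l).toMonoidHom t) * l = t := by
      show l⁻¹ * (l * t * l⁻¹) * l = t
      group
    rw [this]; exact ht

theorem fact_derz [Finite L] (S : Sylow 2 L) : A.z ∈ ⁅(S : Subgroup L), (S : Subgroup L)⁆ := by
  obtain ⟨l, hl⟩ := A.exists_map S
  rw [hl, ← map_commutator]
  refine ⟨A.z, A.z_mem_comm, ?_⟩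
  show l * A.z * l⁻¹ = A.z
  rw [← A.z_cen, mul_inv_cancel_right]

theorem fact_der [Finite L] (S : Sylow 2 L) (e : L) (he : e ∈ ⁅(S : Subgroup L), (S : Subgroup L)⁆) (h1 : e ≠ 1)
    (hz : e ≠ A.z) : ∃ y ∈ S, y * y = e := by
  obtain ⟨l, hl⟩ := A.exists_map S
  rw [hl, ← map_commutator] at he
  obtain ⟨t, ht, rfl⟩ := he
  obtain ⟨p, ha, hb, rfl⟩ := A.comm_T_le ht
  have hc : p.c ≠ 0 := by
    intro hc
    obtain ⟨a, b, c, k⟩ := p
    simp only at ha hb hc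
    subst ha hb hc
    rw [A.el_s] at h1 hz
    cases k
    · apply h1
      rw [A.s_false, map_one]
    · apply hz
      rw [A.s_true]
      show l * A.z * l⁻¹ = A.z
      rw [← A.z_cen, mul_inv_cancel_right]
  obtain ⟨q, hq⟩ := code_sqrt p ha hb hc
  refine ⟨(MulAut.conj l).toMonoidHom (A.el q), ?_, ?_⟩
  · show _ ∈ (S : Subgroup L)
    rw [hl]
    exact ⟨_, A.el_mem q, rfl⟩
  · rw [← map_mul, A.el_mul, hq]

/-- the centralizer of `x₀₂(1) z^k` is `T` -/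
theorem comm_iff (x : L) (k : Bool) : x * (A.x 0 2 1 * A.s k) = A.x 0 2 1 * A.s k * x ↔ x ∈ A.T := by
  constructor
  · intro h
    obtain ⟨p, hp⟩ := A.cent_mod x false (by
      have h1 : x * A.x 0 2 1 * A.s k = A.x 0 2 1 * x * A.s k := by
        rw [mul_assoc, h, mul_assoc, A.s_cen, ← mul_assoc]
      rw [mul_right_cancel h1]
      show _ = _ * 1
      rw [mul_one])
    exact ⟨p, hp.symm⟩
  · rintro ⟨p, rfl⟩
    have h1 : A.el p * A.x 0 2 1 = A.x 0 2 1 * A.el p := by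
      rw [← A.el_x02]
      exact (A.commute_el rfl rfl p).symm
    rw [← mul_assoc, h1, mul_assoc, mul_assoc, A.s_cen]

theorem fact_syl [Finite L] (k : L) (hk : k * k = 1) (h1 : k ≠ 1) (hz : k ≠ A.z) :
    ∃ S : Sylow 2 L, ∀ x, x ∈ S ↔ x * k = k * x := by
  obtain ⟨m, b, hm⟩ := A.inv_conj hk h1 hz (c := 1) (by decide)
  have : Fact (Nat.Prime 2) := ⟨Nat.prime_two⟩
  set Q : Sylow 2 L := A.isPGroup_T.toSylow A.T_index with hQ
  refine ⟨m • Q, fun x => ?_⟩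
  have hx : x ∈ (m • Q : Sylow 2 L) ↔ m⁻¹ * x * m ∈ A.T := by
    constructor
    · rintro ⟨y, hy, hyx⟩
      have h2 : m * y * m⁻¹ = x := hyx
      have h3 : m⁻¹ * x * m = y := by rw [← h2]; group
      rw [h3]; exact hy
    · intro h
      refine ⟨m⁻¹ * x * m, h, ?_⟩
      show m * (m⁻¹ * x * m) * m⁻¹ = x
      group
  rw [hx, ← A.comm_iff _ b, ← hm]
  constructor
  · intro h
    calc x * k = m * (m⁻¹ * x * m * (m⁻¹ * k * m)) * m⁻¹ := by group
      _ = m * (m⁻¹ * k * m * (m⁻¹ * x * m)) * m⁻¹ := by rw [h]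
      _ = k * x := by group
  · intro h
    calc m⁻¹ * x * m * (m⁻¹ * k * m) = m⁻¹ * (x * k) * m := by group
      _ = m⁻¹ * (k * x) * m := by rw [h]
      _ = _ := by group

theorem fact_nof [Finite L] (k x : L) (hk : k * k = 1) (h1 : k ≠ 1) (hz : k ≠ A.z) :
    x * k * x⁻¹ ≠ k * A.z := by
  intro h
  obtain ⟨m, b, hm⟩ := A.inv_conj hk h1 hz (c := 1) (by decide)
  -- `x₀₂(1)` is conjugate to `x₀₂(1) z`
  have h2 : A.x 0 2 1 = m⁻¹ * k * m * A.s b := by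
    rw [hm, mul_assoc, A.s_mul, Bool.xor_self, A.s_false, mul_one]
  have h3 : (m⁻¹ * x⁻¹ * m)⁻¹ * A.x 0 2 1 * (m⁻¹ * x⁻¹ * m) = A.x 0 2 1 * A.s true := by
    have h4 : (m⁻¹ * x⁻¹ * m)⁻¹ * A.x 0 2 1 * (m⁻¹ * x⁻¹ * m) = m⁻¹ * (x * k * x⁻¹) * m * A.s b := by
      rw [h2]
      calc (m⁻¹ * x⁻¹ * m)⁻¹ * (m⁻¹ * k * m * A.s b) * (m⁻¹ * x⁻¹ * m)
          = m⁻¹ * x * k * m * (A.s b * (m⁻¹ * x⁻¹ * m)) := by group
        _ = m⁻¹ * x * k * m * ((m⁻¹ * x⁻¹ * m) * A.s b) := by rw [A.s_cen]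
        _ = _ := by group
    rw [h4, h, h2, A.s_true]
    have h5 := A.z_cen m
    calc m⁻¹ * (k * A.z) * m * A.s b = m⁻¹ * k * (A.z * m) * A.s b := by group
      _ = m⁻¹ * k * m * (A.z * A.s b) := by rw [h5]; group
      _ = m⁻¹ * k * m * A.s b * A.z := by rw [← A.s_cen b A.z]; group
  have h4 := A.no_fusion (by decide) (by decide) h3
  exact absurd h4 (by decide)

include A in
/-- an outer involutory automorphism centralizes an element which is not a 2-element -/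
theorem fact_outr (α : MulAut L) (h2 : α * α = 1) (ho : ∀ l, α ≠ MulAut.conj l) :
    ∃ r, α r = r ∧ ∀ n : ℕ, r ^ (2 ^ n) ≠ 1 := by
  obtain ⟨l, τ, hτ, h⟩ := A.exists_conj_tau α h2 ho
  have e1 : ∀ e, Cfsg.Agent.StdL34.fr e (1 : F4) = 1 := by decide
  have h3 : (MulAut.conj l * α * (MulAut.conj l)⁻¹) (A.x 0 2 1 * A.x 2 0 1) = A.x 0 2 1 * A.x 2 0 1 := by
    rw [map_mul, h.x02, h.x20, e1]
  refine ⟨l⁻¹ * (A.x 0 2 1 * A.x 2 0 1) * l, ?_, ?_⟩
  · rw [MulAut.mul_apply, MulAut.mul_apply, ← map_inv, MulAut.conj_apply, MulAut.conj_apply, inv_inv] at h3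
    calc α (l⁻¹ * (A.x 0 2 1 * A.x 2 0 1) * l)
        = l⁻¹ * (l * α (l⁻¹ * (A.x 0 2 1 * A.x 2 0 1) * l) * l⁻¹) * l := by group
      _ = _ := by rw [h3]
  · intro n hn
    apply A.r_ne n
    have h4 : (A.x 0 2 1 * A.x 2 0 1) ^ (2 ^ n) =
        l * (l⁻¹ * (A.x 0 2 1 * A.x 2 0 1) * l) ^ (2 ^ n) * l⁻¹ := by
      rw [← conj_pow]
      congr 1
      group
    rw [h4, hn]; group

end Cov

/-- elementary abelian groups of automorphisms have order at most 16 -/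
theorem elab_card {L : Type*} [Group L] (hperf : commutator L = ⊤)
    (e : (L ⧸ Subgroup.center L) ≃* Cfsg.Agent.StdLThreeFour.Base.L0) (E : Subgroup (MulAut L))
    (hE : ∀ x ∈ E, x * x = 1) : Nat.card E ≤ 16 := by
  let f : MulAut L →* MulAut Cfsg.Agent.StdLThreeFour.Base.L0 := (MulAut.congr e).toMonoidHom.comp (quoAut L)
  have hinj : Function.Injective f := by
    rw [injective_iff_map_eq_one]
    intro a ha
    apply eq_one_of_quoAut_eq_one hperf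
    apply (MulAut.congr e).injective
    rw [map_one]
    exact ha
  have h1 : Nat.card (E.map f) = Nat.card E :=
    (Nat.card_congr (E.equivMapOfInjective _ hinj).toEquiv).symm
  rw [← h1]
  apply Cfsg.Agent.StdLThreeFour.Facts3.aut_elem_card
  rintro _ ⟨y, hy, rfl⟩
  rw [← map_mul, hE y hy, map_one]

theorem cfacts_of {L : Type*} [Group L] [Finite L] (A : Cov L) (hperf : commutator L = ⊤)
    (e : (L ⧸ Subgroup.center L) ≃* Cfsg.Agent.StdLThreeFour.Base.L0)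
    (D : LThreeFour.Dat (L ⧸ Subgroup.center L)) : AnyC.CFacts A.z 16 where
  m0 := by norm_num
  zz := A.z_sq
  z1 := A.z_ne_one
  zc := fun y => (A.z_cen y).symm
  cen := fun x hx => (A.center x).1 hx
  nosq := A.no_sqrt
  syl := A.fact_syl
  nof := A.fact_nof
  derz := A.fact_derz
  der := A.fact_der
  gen := fun S => A.fact_gen S
  elc := elab_card hperf e
  el := fun E hE hc => OutK.el hperf D E hE (by omega)
  outr := A.fact_outr
  out := OutK.out A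
  exp2 := OutK.exp2 A

/-- the facts about a perfect group `K` with `|Z(K)| = 2` and `K / Z(K) = L3(4)` -/
theorem exists_cfacts {K : Type*} [Group K] [Finite K] (hZ2 : Nat.card (center K) = 2)
    (hperf : commutator K = ⊤) {F : Type*} [Field F] [Fintype F] (hF : Fintype.card F = 4)
    (e : K ⧸ center K ≃* Matrix.ProjectiveSpecialLinearGroup (Fin 3) F) :
    ∃ z : K, AnyC.CFacts z 16 := by
  obtain ⟨A, -, -, -⟩ := exists_cov hZ2 hperf hF e
  obtain ⟨D⟩ := LThreeFour.exists_dat hF e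
  obtain ⟨e'⟩ := nonempty_psl_equiv (n := Fin 3) F hF
  exact ⟨A.z, cfacts_of A hperf (e.trans e'.symm) D⟩

end Cfsg.Agent.OddHalf.D9.L34
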