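import Cfsg.Agent.StdL34.Code

/-!
# Coded Sylow 2-subgroup of `2.L3(4)`

An element `x₀₁(a) x₁₂(b) x₀₂(c) z^k` is coded by `⟨a, b, c, k⟩`; the relations are
`[x₀₁(u), x₁₂(v)] = x₀₂(uv) z^{tr(uv²)}`, and `x₀₂` is central.
-/

set_option autoImplicit false
set_option linter.constructorNameAsVariable false
set_option linter.unusedVariables false

namespace Cfsg.Agent.OddHalf.D9.L34

open Cfsg.Agent.SporadicA.FieldFour
open Cfsg.Agent.StdL34 (trF fr Ty)

/-- codes of the elements of the Sylow 2-subgroup (order `2 ^ 7`) -/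
structure Code where
  a : F4
  b : F4
  c : F4
  k : Bool
  deriving DecidableEq

/-- product of codes -/
def cmul (p q : Code) : Code :=
  ⟨p.a + q.a, p.b + q.b, q.a * p.b + p.c + q.c, xor (xor p.k q.k) (trF (q.a * (p.b * p.b)))⟩

/-- the trivial code -/
def cone : Code := ⟨0, 0, 0, false⟩

/-- inverse code -/
def cinv (p : Code) : Code := ⟨p.a, p.b, p.c + p.a * p.b, xor p.k (trF (p.a * (p.b * p.b)))⟩

/-- the action of a pure outer type on codes -/
def ctau (τ : Ty) (p : Code) : Code :=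
  if τ.2 then cmul (cmul ⟨0, fr τ.1 p.a, 0, false⟩ ⟨fr τ.1 p.b, 0, 0, false⟩) ⟨0, 0, fr τ.1 p.c, p.k⟩
  else ⟨fr τ.1 p.a, fr τ.1 p.b, fr τ.1 p.c, p.k⟩

/-- action of `y ↦ p⁻¹ τ(y) p` on codes -/
def cact (p : Code) (τ : Ty) (y : Code) : Code := cmul (cmul (cinv p) (ctau τ y)) p

theorem forall_code {P : Code → Prop} : (∀ p, P p) ↔ ∀ a b c k, P ⟨a, b, c, k⟩ :=
  ⟨fun h a b c k => h _, fun h p => h p.a p.b p.c p.k⟩

instance {P : Code → Prop} [DecidablePred P] : Decidable (∀ p, P p) :=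
  decidable_of_iff _ forall_code.symm

theorem exists_code {P : Code → Prop} : (∃ p, P p) ↔ ∃ a b c k, P ⟨a, b, c, k⟩ :=
  ⟨fun ⟨p, h⟩ => ⟨p.a, p.b, p.c, p.k, h⟩, fun ⟨_, _, _, _, h⟩ => ⟨_, h⟩⟩

instance {P : Code → Prop} [DecidablePred P] : Decidable (∃ p, P p) :=
  decidable_of_iff _ exists_code.symm

theorem cmul_cinv (p : Code) : cmul p (cinv p) = cone := by
  revert p; decide +kernel

theorem cinv_cmul (p : Code) : cmul (cinv p) p = cone := by
  revert p; decide +kernel

theorem cmul_cone (p : Code) : cmul p cone = p := by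
  revert p; decide +kernel

theorem cone_cmul (p : Code) : cmul cone p = p := by
  revert p; decide +kernel

theorem cmul_assoc (p q r : Code) : cmul (cmul p q) r = cmul p (cmul q r) := by
  obtain ⟨a, b, c, k⟩ := p
  obtain ⟨a', b', c', k'⟩ := q
  obtain ⟨a'', b'', c'', k''⟩ := r
  simp only [cmul, Code.mk.injEq]
  refine ⟨by ring, by ring, by ring, ?_⟩
  have e : (b + b') * (b + b') = b * b + b' * b' := by
    have : ∀ b b' : F4, (b + b') * (b + b') = b * b + b' * b' := by decide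
    exact this b b'
  have t : ∀ u v : F4, trF (u + v) = xor (trF u) (trF v) := by decide
  rw [e, mul_add, add_mul, t, t]
  have : ∀ k k' k'' t1 t2 t3 : Bool,
    xor (xor (xor (xor k k') t1) k'') (xor t2 t3) =
      xor (xor k (xor (xor k' k'') t3)) (xor t1 t2) := by decide
  exact this _ _ _ _ _ _

end Cfsg.Agent.OddHalf.D9.L34
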