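import Cfsg.Agent.OddHalf.D9.L34.Aut

/-!
# Involutions and Sylow 2-subgroups of `2.L3(4)`

For `A : Cov L`:
* `no_sqrt` : `z` is not a square;
* `exists_sqrt` : the involutions `≠ z` of the centre of a Sylow 2-subgroup `S` are squares in `S`;
* `closure_e32` : a Sylow 2-subgroup is generated by its elementary abelian subgroups of order 32;
* `inv_conj` : every involution `≠ z` is conjugate to `x₀₂(c) z^k`, for any given `c ≠ 0`;
* `aut_x02` : automorphisms preserving `A.T` permute the elements `x₀₂(c)`.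
-/

set_option autoImplicit false
set_option linter.constructorNameAsVariable false
set_option linter.unusedVariables false

namespace Cfsg.Agent.OddHalf.D9.L34

open Subgroup
open Cfsg.Agent.SporadicA.FieldFour
open Cfsg.Agent.ONType.Psl (kap)
open Cfsg.Agent.StdL34 (trF fr Ty imgx)

/-! ### finite facts on codes -/

theorem code_four (p : Code) : cmul (cmul p p) (cmul p p) = cone := by
  revert p; decide +kernel

theorem code_no_sqrt (p : Code) : cmul p p ≠ ⟨0, 0, 0, true⟩ := by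
  revert p; decide +kernel

theorem code_inv (p : Code) (h : cmul p p = cone) (h1 : p ≠ cone) (h2 : p ≠ ⟨0, 0, 0, true⟩) :
    ∃ q : Code, (fun r : Code => (r.a = 0 ∧ r.b = 0 ∧ r.c ≠ 0) ∨ (r.b = 0 ∧ r.c = 0 ∧ r.a ≠ 0) ∨
      (r.a = 0 ∧ r.c = 0 ∧ r.b ≠ 0)) (cmul (cmul (cinv q) p) q) := by
  have key : ∀ p : Code, cmul p p = cone → p ≠ cone → p ≠ ⟨0, 0, 0, true⟩ →
      ∃ a b : F4, (fun r : Code => (r.a = 0 ∧ r.b = 0 ∧ r.c ≠ 0) ∨
        (r.b = 0 ∧ r.c = 0 ∧ r.a ≠ 0) ∨ (r.a = 0 ∧ r.c = 0 ∧ r.b ≠ 0))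
        (cmul (cmul (cinv ⟨a, b, 0, false⟩) p) ⟨a, b, 0, false⟩) := by
    decide +kernel
  obtain ⟨a, b, h⟩ := key p h h1 h2
  exact ⟨_, h⟩

theorem code_center (p : Code) (h1 : cmul p ⟨1, 0, 0, false⟩ = cmul ⟨1, 0, 0, false⟩ p)
    (h2 : cmul p ⟨0, 1, 0, false⟩ = cmul ⟨0, 1, 0, false⟩ p) : p.a = 0 ∧ p.b = 0 := by
  revert p; decide +kernel

theorem code_sqrt (p : Code) (ha : p.a = 0) (hb : p.b = 0) (hc : p.c ≠ 0) :
    ∃ q : Code, cmul q q = p := by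
  have key : ∀ p : Code, p.a = 0 → p.b = 0 → p.c ≠ 0 →
      ∃ a b : F4, cmul ⟨a, b, 0, false⟩ ⟨a, b, 0, false⟩ = p := by
    decide +kernel
  obtain ⟨a, b, h⟩ := key p ha hb hc
  exact ⟨_, h⟩

theorem code_comm (p q : Code) (ha : p.a = 0) (hb : p.b = 0) : cmul p q = cmul q p := by
  obtain ⟨a, b, c, k⟩ := p
  obtain ⟨a', b', c', k'⟩ := q
  simp only at ha hb
  subst ha hb
  simp only [cmul, Code.mk.injEq]
  refine ⟨by ring, by ring, by ring, ?_⟩
  have h0 : ∀ u v : F4, trF (u * (0 * 0)) = false ∧ trF (0 * v) = false := by decide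
  rw [(h0 a' 0).1, (h0 0 (b' * b')).2, Bool.xor_false, Bool.xor_false, Bool.xor_comm]

namespace Cov

variable {L : Type*} [Group L] (A : Cov L)

/-- `A.T` is a 2-group -/
theorem isPGroup_T : IsPGroup 2 A.T := by
  rintro ⟨_, p, rfl⟩
  refine ⟨2, Subtype.ext ?_⟩
  show (A.el p) ^ 4 = 1
  have h := congrArg A.el (code_four p)
  rw [← A.el_mul, ← A.el_mul, A.el_one] at h
  have h6 : (A.el p) ^ 4 = ((A.el p) ^ 2) ^ 2 := (pow_mul (A.el p) 2 2)
  rw [h6, pow_two (A.el p), pow_two, h]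

/-- two Sylow 2-subgroups are conjugate -/
theorem exists_conj_T [Finite L] (S : Subgroup L) (hS : IsPGroup 2 S) :
    ∃ l : L, ∀ y ∈ S, l⁻¹ * y * l ∈ A.T := by
  have : Fact (Nat.Prime 2) := ⟨Nat.prime_two⟩
  obtain ⟨P, hP⟩ := hS.exists_le_sylow
  set Q : Sylow 2 L := A.isPGroup_T.toSylow A.T_index with hQ
  obtain ⟨g, hg⟩ := MulAction.exists_smul_eq L P Q
  refine ⟨g⁻¹, fun y hy => ?_⟩
  rw [inv_inv]
  have h1 : g * y * g⁻¹ ∈ (g • P : Sylow 2 L) := by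
    rw [Sylow.smul_def]
    exact ⟨y, hP hy, rfl⟩
  rw [hg] at h1
  exact h1

/-- a Sylow 2-subgroup is exactly a conjugate of `A.T` -/
theorem exists_conj_T_iff [Finite L] (S : Subgroup L) (hS : IsPGroup 2 S) (h2 : ¬ 2 ∣ S.index) :
    ∃ l : L, ∀ y, y ∈ S ↔ l⁻¹ * y * l ∈ A.T := by
  have : Fact (Nat.Prime 2) := ⟨Nat.prime_two⟩
  set P : Sylow 2 L := hS.toSylow h2 with hP
  set Q : Sylow 2 L := A.isPGroup_T.toSylow A.T_index with hQ
  obtain ⟨g, hg⟩ := MulAction.exists_smul_eq L P Q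
  refine ⟨g⁻¹, fun y => ?_⟩
  rw [inv_inv]
  have h3 : g * y * g⁻¹ ∈ (g • P : Sylow 2 L) ↔ y ∈ S := by
    rw [Sylow.smul_def]
    constructor
    · rintro ⟨x, hx, hxy⟩
      have : g * x * g⁻¹ = g * y * g⁻¹ := hxy
      have h4 : x = y := by
        have := mul_right_cancel this
        exact mul_left_cancel this
      rw [← h4]; exact hx
    · intro hy
      exact ⟨y, hy, rfl⟩
  rw [← h3, hg]
  exact Iff.rfl

theorem exists_conj_el [Finite L] (y : L) (hy : ∃ n : ℕ, y ^ (2 ^ n) = 1) :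
    ∃ (l : L) (p : Code), l⁻¹ * y * l = A.el p := by
  have hp : IsPGroup 2 (zpowers y) := by
    rintro ⟨x, hx⟩
    obtain ⟨m, rfl⟩ := mem_zpowers_iff.1 hx
    obtain ⟨n, hn⟩ := hy
    refine ⟨n, Subtype.ext ?_⟩
    show (y ^ m) ^ (2 ^ n) = 1
    rw [← zpow_natCast, ← zpow_mul, mul_comm, zpow_mul, zpow_natCast, hn, one_zpow]
  obtain ⟨l, hl⟩ := A.exists_conj_T (zpowers y) hp
  obtain ⟨p, hp⟩ := hl y (mem_zpowers y)
  exact ⟨l, p, hp.symm⟩

/-- **(F1)** `z` is not a square. -/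
theorem no_sqrt [Finite L] (y : L) : y * y ≠ A.z := by
  intro h
  obtain ⟨l, p, hp⟩ := A.exists_conj_el y ⟨2, by
    have h6 : y ^ (2 ^ 2) = (y ^ 2) ^ 2 := (pow_mul y 2 2)
    rw [h6, pow_two y, h, pow_two, A.z_sq]⟩
  have h1 : A.el p * A.el p = A.z := by
    rw [← hp]
    calc l⁻¹ * y * l * (l⁻¹ * y * l) = l⁻¹ * (y * y) * l := by group
      _ = A.z := by rw [h, mul_assoc, A.z_cen, inv_mul_cancel_left]
  rw [A.el_mul, ← A.el_z] at h1
  exact code_no_sqrt p (A.inj h1)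

/-- the centre of `A.T` -/
theorem mem_center_T {p : Code} (h : ∀ y ∈ A.T, A.el p * y = y * A.el p) : p.a = 0 ∧ p.b = 0 := by
  apply code_center
  · apply A.inj
    rw [← A.el_mul, ← A.el_mul]
    exact h _ (A.el_mem _)
  · apply A.inj
    rw [← A.el_mul, ← A.el_mul]
    exact h _ (A.el_mem _)

theorem commute_el {p : Code} (ha : p.a = 0) (hb : p.b = 0) (q : Code) :
    A.el p * A.el q = A.el q * A.el p := by
  rw [A.el_mul, A.el_mul, code_comm p q ha hb]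

/-- **(F2)** involutions of the centre of a Sylow 2-subgroup -/
theorem exists_sqrt [Finite L] (S : Subgroup L) (hS : IsPGroup 2 S) (h2 : ¬ 2 ∣ S.index)
    {e : L} (he : e ∈ S) (hec : ∀ y ∈ S, e * y = y * e) (h1 : e ≠ 1) (hz : e ≠ A.z) :
    ∃ y ∈ S, y * y = e := by
  obtain ⟨l, hl⟩ := A.exists_conj_T_iff S hS h2
  obtain ⟨p, hp⟩ := (hl e).1 he
  have hc : ∀ y ∈ A.T, A.el p * y = y * A.el p := by
    intro y hy
    have h3 : l * y * l⁻¹ ∈ S := by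
      rw [hl]
      have : l⁻¹ * (l * y * l⁻¹) * l = y := by group
      rwa [this]
    have h4 := hec _ h3
    rw [hp]
    calc l⁻¹ * e * l * y = l⁻¹ * (e * (l * y * l⁻¹)) * l := by group
      _ = y * (l⁻¹ * e * l) := by rw [h4]; group
  obtain ⟨ha, hb⟩ := A.mem_center_T hc
  have hcc : p.c ≠ 0 := by
    intro hc0
    obtain ⟨a, b, c, k⟩ := p
    simp only at ha hb hc0
    subst ha hb hc0
    have h5 : e = l * A.el ⟨0, 0, 0, k⟩ * l⁻¹ := by rw [hp]; group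
    rw [A.el_s, ← A.s_cen, mul_assoc, mul_inv_cancel, mul_one] at h5
    cases k
    · exact h1 h5
    · exact hz h5
  obtain ⟨q, hq⟩ := code_sqrt p ha hb hcc
  refine ⟨l * A.el q * l⁻¹, ?_, ?_⟩
  · rw [hl]
    have : l⁻¹ * (l * A.el q * l⁻¹) * l = A.el q := by group
    rw [this]
    exact A.el_mem q
  · calc l * A.el q * l⁻¹ * (l * A.el q * l⁻¹) = l * (A.el q * A.el q) * l⁻¹ := by group
      _ = e := by rw [A.el_mul, hq, hp]; group

/-- the elementary abelian group `⟨z, x₀₁, x₀₂⟩` -/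
def E1 : Subgroup L where
  carrier := {y | ∃ p : Code, p.b = 0 ∧ A.el p = y}
  mul_mem' := by
    rintro _ _ ⟨p, hp, rfl⟩ ⟨q, hq, rfl⟩
    exact ⟨cmul p q, by show p.b + q.b = 0; rw [hp, hq, add_zero], (A.el_mul p q).symm⟩
  one_mem' := ⟨cone, rfl, A.el_one⟩
  inv_mem' := by
    rintro _ ⟨p, hp, rfl⟩
    exact ⟨cinv p, hp, (A.el_inv p).symm⟩

/-- the elementary abelian group `⟨z, x₁₂, x₀₂⟩` -/
def E2 : Subgroup L where
  carrier := {y | ∃ p : Code, p.a = 0 ∧ A.el p = y}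
  mul_mem' := by
    rintro _ _ ⟨p, hp, rfl⟩ ⟨q, hq, rfl⟩
    exact ⟨cmul p q, by show p.a + q.a = 0; rw [hp, hq, add_zero], (A.el_mul p q).symm⟩
  one_mem' := ⟨cone, rfl, A.el_one⟩
  inv_mem' := by
    rintro _ ⟨p, hp, rfl⟩
    exact ⟨cinv p, hp, (A.el_inv p).symm⟩

theorem mem_E1 {y : L} : y ∈ A.E1 ↔ ∃ p : Code, p.b = 0 ∧ A.el p = y := Iff.rfl

theorem mem_E2 {y : L} : y ∈ A.E2 ↔ ∃ p : Code, p.a = 0 ∧ A.el p = y := Iff.rfl

theorem card_pair {X : Type*} (f : F4 × F4 × Bool → X) (hf : Function.Injective f) (S : Set X)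
    (hS : ∀ x, x ∈ S ↔ ∃ a, f a = x) : Nat.card S = 32 := by
  have : S = Set.range f := by ext x; rw [hS]; rfl
  rw [this]
  have h1 : Nat.card (Set.range f) = Nat.card (F4 × F4 × Bool) :=
    (Nat.card_congr (Equiv.ofInjective f hf)).symm
  rw [h1, Nat.card_prod, Nat.card_prod, Nat.card_eq_fintype_card, F4.card_eq,
    Nat.card_eq_fintype_card, Fintype.card_bool]

theorem card_E1 : Nat.card A.E1 = 32 := by
  refine card_pair (fun q => A.el ⟨q.1, 0, q.2.1, q.2.2⟩) ?_ (A.E1 : Set L) ?_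
  · rintro ⟨a, c, k⟩ ⟨a', c', k'⟩ h
    have := A.inj h
    simp only [Code.mk.injEq, true_and] at this
    obtain ⟨h1, h2, h3⟩ := this
    rw [h1, h2, h3]
  · intro x
    constructor
    · rintro ⟨⟨a, b, c, k⟩, hb, rfl⟩
      simp only at hb
      subst hb
      exact ⟨(a, c, k), rfl⟩
    · rintro ⟨⟨a, c, k⟩, rfl⟩; exact ⟨_, rfl, rfl⟩

theorem card_E2 : Nat.card A.E2 = 32 := by
  refine card_pair (fun q => A.el ⟨0, q.1, q.2.1, q.2.2⟩) ?_ (A.E2 : Set L) ?_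
  · rintro ⟨a, c, k⟩ ⟨a', c', k'⟩ h
    have := A.inj h
    simp only [Code.mk.injEq, true_and] at this
    obtain ⟨h1, h2, h3⟩ := this
    rw [h1, h2, h3]
  · intro x
    constructor
    · rintro ⟨⟨a, b, c, k⟩, hb, rfl⟩
      simp only at hb
      subst hb
      exact ⟨(b, c, k), rfl⟩
    · rintro ⟨⟨a, c, k⟩, rfl⟩; exact ⟨_, rfl, rfl⟩

theorem sq_E1 {y : L} (hy : y ∈ A.E1) : y * y = 1 := by
  obtain ⟨p, hp, rfl⟩ := hy
  rw [A.el_mul, ← A.el_one]
  congr 1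
  revert p; decide +kernel

theorem sq_E2 {y : L} (hy : y ∈ A.E2) : y * y = 1 := by
  obtain ⟨p, hp, rfl⟩ := hy
  rw [A.el_mul, ← A.el_one]
  congr 1
  revert p; decide +kernel

theorem E1_le : A.E1 ≤ A.T := by
  rintro _ ⟨p, _, rfl⟩; exact A.el_mem _

theorem E2_le : A.E2 ≤ A.T := by
  rintro _ ⟨p, _, rfl⟩; exact A.el_mem _

include A in
/-- **(F3)** a Sylow 2-subgroup is generated by its elementary abelian subgroups of order 32 -/
theorem le_of_e32 [Finite L] (S : Subgroup L) (hS : IsPGroup 2 S) (h2 : ¬ 2 ∣ S.index)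
    (M : Subgroup L)
    (hM : ∀ E : Subgroup L, E ≤ S → Nat.card E = 32 → (∀ y ∈ E, y * y = 1) → E ≤ M) : S ≤ M := by
  obtain ⟨l, hl⟩ := A.exists_conj_T_iff S hS h2
  -- transport
  have key : ∀ E : Subgroup L, E ≤ A.T → Nat.card E = 32 → (∀ y ∈ E, y * y = 1) →
      ∀ y ∈ E, l * y * l⁻¹ ∈ M := by
    intro E hE hc hsq y hy
    apply hM (E.map (MulAut.conj l).toMonoidHom)
    · rintro _ ⟨x, hx, rfl⟩
      show l * x * l⁻¹ ∈ S
      rw [hl]
      have : l⁻¹ * (l * x * l⁻¹) * l = x := by group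
      rw [this]
      exact hE hx
    · rw [← hc]
      exact Nat.card_congr (E.equivMapOfInjective _ (MulAut.conj l).injective).symm.toEquiv
    · rintro _ ⟨x, hx, rfl⟩
      rw [← map_mul, hsq x hx, map_one]
    · exact ⟨y, hy, rfl⟩
  intro y hy
  obtain ⟨p, hp⟩ := (hl y).1 hy
  have h1 : A.el p = A.el ⟨p.a, 0, 0, false⟩ * A.el ⟨0, p.b, p.c, p.k⟩ := by
    rw [A.el_mul]
    congr 1
    obtain ⟨a, b, c, k⟩ := p
    simp only [cmul, Code.mk.injEq]
    refine ⟨by ring, by ring, by ring, ?_⟩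
    have h0 : ∀ v : F4, trF (0 * v) = false := by decide
    rw [h0, Bool.xor_false, Bool.false_xor]
  have h3 : y = (l * A.el ⟨p.a, 0, 0, false⟩ * l⁻¹) * (l * A.el ⟨0, p.b, p.c, p.k⟩ * l⁻¹) := by
    have : y = l * A.el p * l⁻¹ := by rw [hp]; group
    rw [this, h1]; group
  rw [h3]
  exact mul_mem (key A.E1 A.E1_le A.card_E1 (fun _ => A.sq_E1) _ ⟨_, rfl, rfl⟩)
    (key A.E2 A.E2_le A.card_E2 (fun _ => A.sq_E2) _ ⟨_, rfl, rfl⟩)

/-! ### fusion of the root involutions -/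

/-- conjugation of `x₀₂` by the torus -/
theorem x02_conj (c c' : F4) (hc : c ≠ 0) (hc' : c' ≠ 0) :
    ∃ m : L, ∀ k, m⁻¹ * (A.x 0 2 c * A.s k) * m = A.x 0 2 c' * A.s k := by
  have hh : ∀ (m : L) (u v : F4), m⁻¹ * A.x 0 2 u * m = A.x 0 2 v →
      ∀ k, m⁻¹ * (A.x 0 2 u * A.s k) * m = A.x 0 2 v * A.s k := by
    intro m u v h k
    rw [← h]
    calc m⁻¹ * (A.x 0 2 u * A.s k) * m = m⁻¹ * A.x 0 2 u * (A.s k * m) := by group
      _ = _ := by rw [A.s_cen]; group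
  have h1 : ∀ u, A.h⁻¹ * A.x 0 2 u * A.h = A.x 0 2 (kap 0 2 * u) := fun u => A.h_x 0 2 (by decide) u
  have h2 : ∀ u, (A.h * A.h)⁻¹ * A.x 0 2 u * (A.h * A.h) = A.x 0 2 (kap 0 2 * (kap 0 2 * u)) := by
    intro u
    rw [← h1, ← h1]; group
  have key : ∀ c c' : F4, c ≠ 0 → c' ≠ 0 →
      c' = c ∨ c' = kap 0 2 * c ∨ c' = kap 0 2 * (kap 0 2 * c) := by decide
  rcases key c c' hc hc' with rfl | rfl | rfl
  · exact ⟨1, hh 1 _ _ (by group)⟩
  · exact ⟨A.h, hh _ _ _ (h1 c)⟩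
  · exact ⟨A.h * A.h, hh _ _ _ (h2 c)⟩

/-- **(F4), inner part** every involution `≠ z` is conjugate to `x₀₂(c) z^k` -/
theorem inv_conj [Finite L] {e : L} (he : e * e = 1) (h1 : e ≠ 1) (hz : e ≠ A.z) {c : F4}
    (hc : c ≠ 0) : ∃ (m : L) (k : Bool), m⁻¹ * e * m = A.x 0 2 c * A.s k := by
  obtain ⟨l, p, hp⟩ := A.exists_conj_el e ⟨1, by rw [pow_one, pow_two, he]⟩
  have hpp : cmul p p = cone := by
    apply A.inj
    rw [← A.el_mul, ← hp, A.el_one]
    calc l⁻¹ * e * l * (l⁻¹ * e * l) = l⁻¹ * (e * e) * l := by group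
      _ = 1 := by rw [he]; group
  have hp1 : p ≠ cone := by
    rintro rfl
    rw [A.el_one] at hp
    apply h1
    calc e = l * (l⁻¹ * e * l) * l⁻¹ := by group
      _ = 1 := by rw [hp]; group
  have hpz : p ≠ ⟨0, 0, 0, true⟩ := by
    rintro rfl
    rw [A.el_z] at hp
    apply hz
    calc e = l * (l⁻¹ * e * l) * l⁻¹ := by group
      _ = A.z := by rw [hp, ← A.z_cen, mul_inv_cancel_right]
  obtain ⟨q, hq⟩ := code_inv p hpp hp1 hpz
  have e1 : (l * A.el q)⁻¹ * e * (l * A.el q) = A.el (cmul (cmul (cinv q) p) q) := by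
    rw [← A.el_mul, ← A.el_mul, ← A.el_inv, ← hp]; group
  generalize cmul (cmul (cinv q) p) q = r at hq e1
  -- it is conjugate to some x02(u) z^k with u ≠ 0
  have key : ∃ (m : L) (u : F4) (k : Bool), u ≠ 0 ∧ m⁻¹ * A.el r * m = A.x 0 2 u * A.s k := by
    obtain ⟨a, b, d, k⟩ := r
    rcases hq with ⟨ha, hb, hd⟩ | ⟨hb, hd, ha⟩ | ⟨ha, hd, hb⟩
    · simp only at ha hb hd
      subst ha hb
      refine ⟨1, d, k, hd, ?_⟩
      rw [A.el_eq]
      simp only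
      rw [A.x_zero 0 1 (by decide), A.x_zero 1 2 (by decide)]; group
    · simp only at ha hb hd
      subst hd hb
      have hw := A.x_wey 1 2 0 1 (by decide) (by decide) a
      set n := A.x 1 2 1 * A.x 2 1 1 * A.x 1 2 1
      refine ⟨n, a, k, ha, ?_⟩
      have hw' : n⁻¹ * A.x 0 1 a * n = A.x 0 2 a := hw
      rw [A.el_eq]
      simp only
      rw [A.x_zero 0 2 (by decide), A.x_zero 1 2 (by decide), mul_one, mul_one, ← hw']
      calc n⁻¹ * (A.x 0 1 a * A.s k) * n = n⁻¹ * A.x 0 1 a * (A.s k * n) := by group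
        _ = _ := by rw [A.s_cen]; group
    · simp only at ha hb hd
      subst hd ha
      have hw := A.x_wey 0 1 1 2 (by decide) (by decide) b
      set n := A.x 0 1 1 * A.x 1 0 1 * A.x 0 1 1
      refine ⟨n, b, k, hb, ?_⟩
      have hw' : n⁻¹ * A.x 1 2 b * n = A.x 0 2 b := hw
      rw [A.el_eq]
      simp only
      rw [A.x_zero 0 2 (by decide), A.x_zero 0 1 (by decide), mul_one, one_mul, ← hw']
      calc n⁻¹ * (A.x 1 2 b * A.s k) * n = n⁻¹ * A.x 1 2 b * (A.s k * n) := by group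
        _ = _ := by rw [A.s_cen]; group
  obtain ⟨m, u, k, hu, hm⟩ := key
  obtain ⟨m', hm'⟩ := A.x02_conj u c hu hc
  refine ⟨l * A.el q * m * m', k, ?_⟩
  rw [← hm' k, ← hm, ← e1]; group

/-- `x₀₂(c)` is never conjugate to `x₀₂(c') z` -/
theorem no_fusion {m : L} {c c' : F4} {k : Bool} (hc : c ≠ 0) (hc' : c' ≠ 0)
    (h : m⁻¹ * A.x 0 2 c * m = A.x 0 2 c' * A.s k) : k = false := by
  obtain ⟨m1, h1⟩ := A.x02_conj c 1 hc (by decide)
  obtain ⟨m2, h2⟩ := A.x02_conj c' 1 hc' (by decide)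
  have h1' := h1 false
  rw [A.s_false, mul_one, mul_one] at h1'
  have h2' := h2 k
  -- n = m1⁻¹ m m2 conjugates x02(1) to x02(1) z^k
  have h3 : (m1⁻¹ * m * m2)⁻¹ * A.x 0 2 1 * (m1⁻¹ * m * m2) = A.x 0 2 1 * A.s k := by
    rw [← h2', ← h, ← h1']; group
  set n := m1⁻¹ * m * m2
  have h4 : A.x 0 2 1 * n = n * A.x 0 2 1 * A.s k := by
    have : A.x 0 2 1 * n = n * (n⁻¹ * A.x 0 2 1 * n) := by group
    rw [this, h3]; group
  have hss : A.s k * A.s k = 1 := by rw [A.s_mul, Bool.xor_self, A.s_false]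
  have h5 : n * A.x 0 2 1 = A.x 0 2 1 * n * zp A.z k := by
    show _ = _ * A.s k
    rw [h4, mul_assoc _ (A.s k), hss, mul_one]
  obtain ⟨p, hp⟩ := A.cent_mod n k h5
  have h6 : A.el p = n := hp.symm
  have h7 : A.x 0 2 1 * n = n * A.x 0 2 1 := by
    rw [← h6, ← A.el_x02]
    exact A.commute_el rfl rfl p
  rw [h4] at h7
  have h8 : A.s k = 1 := mul_left_cancel (h7.trans (mul_one _).symm)
  cases k
  · rfl
  · exact absurd h8 A.z_ne_one

/-- automorphisms preserving `A.T` permute the elements `x₀₂(c)`, `c ≠ 0` -/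
theorem aut_x02 (α : MulAut L) (hα : ∀ y, y ∈ A.T ↔ α y ∈ A.T) {c : F4} (hc : c ≠ 0) :
    ∃ c', c' ≠ 0 ∧ α (A.x 0 2 c) = A.x 0 2 c' := by
  have h1 : α (A.x 0 2 c) ∈ A.T := by
    rw [← hα, ← A.el_x02]; exact A.el_mem _
  obtain ⟨p, hp⟩ := h1
  have hcen : ∀ y ∈ A.T, A.el p * y = y * A.el p := by
    intro y hy
    obtain ⟨y', rfl⟩ := α.surjective y
    rw [← hα] at hy
    obtain ⟨q, rfl⟩ := hy
    rw [hp, ← map_mul, ← map_mul, ← A.el_x02, A.commute_el rfl rfl]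
  obtain ⟨ha, hb⟩ := A.mem_center_T hcen
  obtain ⟨a, b, c', k⟩ := p
  simp only at ha hb
  subst ha hb
  have hc' : c' ≠ 0 := by
    rintro rfl
    rw [A.el_s] at hp
    have h2 : α (A.s k) = A.s k := aut_s α k
    rw [← h2] at hp
    have h3 := α.injective hp
    rw [← A.el_s, ← A.el_x02] at h3
    have h4 := A.inj h3
    simp only [Code.mk.injEq] at h4
    exact hc h4.2.2.1.symm
  have hp' : α (A.x 0 2 c) = A.x 0 2 c' * A.s k := by
    rw [← hp, A.el_eq]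
    simp only
    rw [A.x_zero 0 1 (by decide), A.x_zero 1 2 (by decide), one_mul, one_mul]
  refine ⟨c', hc', ?_⟩
  obtain ⟨m, τ, hτ⟩ := A.exists_tau α
  have h5 := hτ.x02 c
  rw [MulAut.mul_apply, MulAut.conj_apply, hp'] at h5
  have hfr : ∀ (e : Bool) (c : F4), c ≠ 0 → fr e c ≠ 0 := by decide
  have h6 : m⁻¹ * A.x 0 2 (fr τ.1 c) * m = A.x 0 2 c' * A.s k := by
    rw [← h5]; group
  have h7 := A.no_fusion (hfr _ _ hc) hc' h6
  rw [hp', h7, A.s_false, mul_one]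

end Cov

end Cfsg.Agent.OddHalf.D9.L34
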