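import Cfsg.Agent.ONType.Norm

/-!
# Perfect central extensions `2·L₃(4)`: the commutator function and its normalisation

For a central extension `M` of `PSL(3,4)` whose kernel has exponent two, the row and column forms of
`ONType.Comm` are trivial and the function `g` is additive.  If `M` is perfect and the kernel is
`{1, z}`, then after a diagonal automorphism `g s = z ^ tr s`.
-/

set_option autoImplicit false
set_option linter.constructorNameAsVariable false
set_option linter.unusedVariables false

namespace Cfsg.Agent.OddHalf.D9.L34.Norm2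

open Cfsg.Agent.SporadicA.FieldFour
open Cfsg.Agent.ONType.Psl
open Cfsg.Agent.ONType.PslCard
open Cfsg.Agent.ONType.Lift
open Cfsg.Agent.ONType.Comm
open Cfsg.Agent.ONType.Norm

variable {M : Type*} [Group M] {π : M →* PSL3}

theorem f_eq_one (C : CExt π) (h2 : ∀ k : M, π k = 1 → k * k = 1) (s : F4) : C.f s = 1 := by
  have hs : ∀ s : F4, (s * s) * (s * s) = s := by decide
  have h := C.g_sq (s * s)
  rw [hs, h2 _ (C.g_map _)] at h
  exact h.symm

theorem g_add (C : CExt π) (h2 : ∀ k : M, π k = 1 → k * k = 1) (s s' : F4) :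
    C.g (s + s') = C.g s * C.g s' := by
  rw [C.g_add, f_eq_one C h2, mul_one]

/-- `g` is not trivial if the extension is perfect and the kernel has order two -/
theorem exists_g_ne_one [Finite M] (C : CExt π) (hperf : commutator M = ⊤)
    (hker : Nat.card π.ker = 2) (z : M) (hz : π z = 1) (hz1 : z ≠ 1)
    (h2 : ∀ k : M, π k = 1 → k * k = 1) : ∃ s, C.g s ≠ 1 := by
  by_contra hcon
  push Not at hcon
  have hf := f_eq_one C h2
  have hgK : ∀ s, C.g s ∈ π.ker := fun s => C.g_map s
  have hgB : ∀ s, C.g s ∈ (⊥ : Subgroup M) := fun s => by rw [hcon s]; exact one_mem _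
  set P := C.W hf π.ker le_rfl hgK with hP
  set Q := C.W hf ⊥ bot_le hgB with hQ
  have cP : Nat.card P = 128 := by rw [hP, C.card_W, hker]
  have cQ : Nat.card Q = 64 := by rw [hQ, C.card_W, Subgroup.card_bot]
  have hQP : Q ≤ P := by
    rintro _ ⟨a, b, c, k, hk, rfl⟩
    exact ⟨a, b, c, k, (bot_le : (⊥ : Subgroup M) ≤ π.ker) hk, rfl⟩
  have hidx : P.index = 315 := by
    have h := Subgroup.card_mul_index P
    rw [cP, C.card_M, hker] at h
    omega
  have hrel : (Q.subgroupOf P).index = 2 := by
    have h := Subgroup.card_mul_index (Q.subgroupOf P)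
    have h2 : Nat.card (Q.subgroupOf P) = 64 := by
      rw [← cQ]
      exact Nat.card_congr (Subgroup.subgroupOfEquivOfLe hQP).toEquiv
    rw [h2, cP] at h
    omega
  have hzP : z ∈ P := by
    refine ⟨0, 0, 0, z, hz, ?_⟩
    unfold CExt.nf
    rw [C.x_zero 0 1 (by decide), C.x_zero 1 2 (by decide), C.x_zero 0 2 (by decide)]
    group
  have hzc : z ∈ Subgroup.center M := by
    rw [Subgroup.mem_center_iff]
    intro m
    exact (C.cen z hz m).symm
  refine Cfsg.Agent.ONType.Transfer.not_mem_commutator_of_index_two P (by rw [hidx]; decide)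
    (Q.subgroupOf P) hrel z hzP hzc ?_ (by rw [hperf]; exact Subgroup.mem_top z)
  intro hmem
  rw [Subgroup.mem_subgroupOf] at hmem
  obtain ⟨a, b, c, k, hk, e⟩ := hmem
  have e0 : C.nf 0 0 0 z = C.nf a b c k := by
    rw [← e]
    unfold CExt.nf
    rw [C.x_zero 0 1 (by decide), C.x_zero 1 2 (by decide), C.x_zero 0 2 (by decide)]
    group
  obtain ⟨-, -, -, h4⟩ := C.nf_inj hz ((bot_le : (⊥ : Subgroup M) ≤ π.ker) hk) e0
  rw [Subgroup.mem_bot] at hk
  exact hz1 (h4.trans hk)

/-- effect of a diagonal twist on `g` -/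
theorem twist_g (C : CExt π) (d : F4) (hd : d ≠ 0) (s : F4) :
    (twist C d hd).g (d * d * s) = C.g s := by
  have h1 := twist_x C d hd 0 1 (by decide) s
  have h2 := twist_x C d hd 1 2 (by decide) 1
  have h3 := twist_x C d hd 0 2 (by decide) (s * 1)
  have e1 : dch 0 1 d * s = s := by
    have : ∀ d s : F4, dch 0 1 d * s = s := by decide
    exact this d s
  have e2 : dch 1 2 d * 1 = d := by
    have : ∀ d : F4, dch 1 2 d * 1 = d := by decide
    exact this d
  have e3 : dch 0 2 d * (s * 1) = s * d := by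
    have : ∀ d s : F4, dch 0 2 d * (s * 1) = s * d := by decide
    exact this d s
  rw [e1] at h1
  rw [e2] at h2
  rw [e3] at h3
  have h4 : (twist C d hd).g (d * d * s) = (twist C d hd).K s d := by
    rw [(twist C d hd).K_eq]
    congr 1
    ring
  rw [h4]
  show _⁻¹ * cm _ _ = _⁻¹ * cm _ _
  rw [h1, h2, h3]

/-- NORMALISATION: after a diagonal automorphism `g` is the trace form. -/
theorem exists_normalized [Finite M] (C : CExt π) (hperf : commutator M = ⊤) {z : M}
    (hker : ∀ k : M, π k = 1 ↔ k = 1 ∨ k = z) (hz1 : z ≠ 1) :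
    ∃ (π' : M →* PSL3) (C' : CExt π'), π'.ker = π.ker ∧ C'.g 1 = 1 ∧ C'.g ω = z ∧
      C'.g ω2 = z := by
  have hz : π z = 1 := (hker z).2 (Or.inr rfl)
  have hzz : z * z = 1 := by
    have h1 : π (z * z) = 1 := by rw [map_mul, hz, one_mul]
    rcases (hker _).1 h1 with h | h
    · exact h
    · exact absurd (mul_eq_left.mp h) hz1
  have h2 : ∀ k : M, π k = 1 → k * k = 1 := by
    intro k hk
    rcases (hker k).1 hk with rfl | rfl
    · exact one_mul 1
    · exact hzz
  have hcard : Nat.card π.ker = 2 := by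
    have e : (π.ker : Set M) = {1, z} := by
      ext k
      exact hker k
    have h3 : Nat.card π.ker = (π.ker : Set M).ncard := rfl
    rw [h3, e]
    exact Set.ncard_pair (Ne.symm hz1)
  have hkk : ∀ d hd, ((δ d hd).toMonoidHom.comp π).ker = π.ker := by
    intro d hd
    ext k
    constructor
    · intro hk
      have : δ d hd (π k) = 1 := hk
      rwa [map_eq_one_iff _ (δ d hd).injective] at this
    · intro hk
      have hk' : π k = 1 := hk
      show δ d hd (π k) = 1
      rw [hk', map_one]
  -- choose r ≠ 0 with g r = 1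
  have hr : ∃ r : F4, r ≠ 0 ∧ C.g r = 1 := by
    by_contra hcon
    push Not at hcon
    have h1 := ((hker _).1 (C.g_map 1)).resolve_left (hcon 1 (by decide))
    have h3 := ((hker _).1 (C.g_map ω)).resolve_left (hcon ω (by decide))
    apply hcon ω2 (by decide)
    have e : ω2 = 1 + ω := by decide
    rw [e, g_add C h2, h1, h3, hzz]
  obtain ⟨r, hr0, hr1⟩ := hr
  have hdr : r * r * r = 1 := by
    have : ∀ r : F4, r ≠ 0 → r * r * r = 1 := by decide
    exact this r hr0
  set C' := twist C r hr0 with hC'
  have hg1 : C'.g 1 = 1 := by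
    have := twist_g C r hr0 r
    rw [hdr] at this
    rw [hC', this, hr1]
  have hker' : ∀ k : M, ((δ r hr0).toMonoidHom.comp π) k = 1 ↔ k = 1 ∨ k = z := by
    intro k
    rw [← hker k]
    have := hkk r hr0
    constructor
    · intro h
      have : k ∈ ((δ r hr0).toMonoidHom.comp π).ker := h
      rw [hkk] at this
      exact this
    · intro h
      have : k ∈ π.ker := h
      rw [← hkk r hr0] at this
      exact this
  have h2' : ∀ k : M, ((δ r hr0).toMonoidHom.comp π) k = 1 → k * k = 1 := by
    intro k hk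
    exact h2 k ((hker k).2 ((hker' k).1 hk))
  have hex := exists_g_ne_one C' hperf (by rw [hkk]; exact hcard) z ((hker' z).2 (Or.inr rfl)) hz1 h2'
  have hω : C'.g ω ≠ 1 := by
    intro hw
    obtain ⟨s, hs⟩ := hex
    apply hs
    cases s
    · exact C'.g_zero
    · exact hg1
    · exact hw
    · have e : F4.v = 1 + ω := by decide
      rw [e, g_add C' h2', hg1, hw, one_mul]
  have hω' : C'.g ω = z := ((hker' _).1 (C'.g_map ω)).resolve_left hω
  refine ⟨_, C', hkk r hr0, hg1, hω', ?_⟩
  have e : ω2 = 1 + ω := by decide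
  rw [e, g_add C' h2', hg1, hω', one_mul]

end Cfsg.Agent.OddHalf.D9.L34.Norm2
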