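import Cfsg.Agent.OddHalf.D9.L34.Aut

/-!
# Involutory automorphisms of `2.L3(4)`

`exists_conj_tau`: an involutory automorphism which is not inner is conjugate under inner automorphisms to a pure type.
`exists_square`: for a pure type `β ≠ 1` there is `k` with `1 ≠ β(k) k⁻¹` in the subgroup generated by the squares of
the fixed points of `β`.
-/

set_option autoImplicit false
set_option linter.constructorNameAsVariable false
set_option linter.unusedVariables false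

namespace Cfsg.Agent.OddHalf.D9.L34

open Cfsg.Agent.SporadicA.FieldFour
open Cfsg.Agent.ONType.Psl (kap)
open Cfsg.Agent.ONType.OuterL (rv rv_ne rv_rv)
open Cfsg.Agent.StdL34 (trF fr Ty imgx)

theorem fix_T : ∀ (τ : Ty) a b c k, (∀ y ∈ ([⟨1, 0, 0, false⟩, ⟨F4.w, 0, 0, false⟩, ⟨0, 1, 0, false⟩,
    ⟨0, F4.w, 0, false⟩] : List Code), cact ⟨a, b, c, k⟩ τ y = y) → τ = (false, false) ∧ a = 0 ∧ b = 0 := by
  decide +kernel

theorem cact_x02 : ∀ (τ : Ty) a b c k, cact ⟨a, b, c, k⟩ τ ⟨0, 0, 1, false⟩ = ⟨0, 0, 1, false⟩ := by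
  decide +kernel

set_option synthInstance.maxHeartbeats 400000 in
set_option synthInstance.maxSize 1024 in
theorem inv_outer : ∀ (τ : Ty) a b c, τ ≠ (false, false) →
    nk (cmul (ctau τ ⟨a, b, c, false⟩) ⟨a, b, c, false⟩) = cone →
    ∃ a' b' c', nk (cmul (ctau τ ⟨a', b', c', false⟩)
      (cmul ⟨a, b, c, false⟩ (cinv ⟨a', b', c', false⟩))) = cone := by
  decide +kernel

namespace Cov

variable {L : Type*} [Group L] {A : Cov L}

theorem conj_eq_one_iff (A : Cov L) (l : L) : MulAut.conj l = 1 ↔ l = 1 ∨ l = A.z := by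
  rw [← A.center]
  constructor
  · intro h m
    have := DFunLike.congr_fun h m
    rw [MulAut.conj_apply, MulAut.one_apply, mul_inv_eq_iff_eq_mul] at this
    exact this
  · intro h
    ext m
    rw [MulAut.conj_apply, MulAut.one_apply, h m, mul_inv_cancel_right]

theorem nk_of_conj {p : Code} (h : MulAut.conj (A.el p) = 1) : nk p = cone := by
  rcases (A.conj_eq_one_iff _).1 h with h | h
  · rw [← A.el_one] at h
    rw [A.inj h]; rfl
  · rw [← A.el_z] at h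
    rw [A.inj h]; rfl

theorem Cd.one {p : Code} {τ : Ty} (h : A.Cd 1 p τ) : τ = (false, false) ∧ L34.nk p = L34.cone := by
  have h1 : ∀ y, cact p τ y = y := by
    intro y
    have := h.apply y
    exact (A.inj this).symm
  obtain ⟨h2, -, -⟩ := fix_T τ p.a p.b p.c p.k (fun y _ => h1 y)
  subst h2
  have h3 : A.IsTau (false, false) (MulAut.conj (A.el p)) := by
    have h31 : A.IsTau (false, false) (MulAut.conj (A.el p) * 1) := h
    rwa [mul_one] at h31
  exact ⟨rfl, nk_of_conj (h3.ext isTau_one)⟩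

theorem Cd.cone {α : MulAut L} {τ : Ty} {p : Code} (hp : L34.nk p = L34.cone) (h : A.Cd α p τ) :
    A.IsTau τ α := by
  have h1 := h.nk
  rw [hp] at h1
  unfold Cd at h1
  rwa [A.el_one, map_one, one_mul] at h1

/-- an automorphism fixing `x₀₂(1)` -/
theorem exists_cd {α : MulAut L} (h : α (A.x 0 2 1) = A.x 0 2 1) : ∃ p τ, A.Cd α p τ := by
  obtain ⟨l, τ, hl⟩ := A.exists_tau α
  have h2 := hl.x02 1
  have e1 : ∀ e, fr e (1 : F4) = 1 := by decide
  rw [MulAut.mul_apply, h, MulAut.conj_apply, e1] at h2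
  obtain ⟨p, rfl⟩ := A.cent_mod l false (by
    rw [mul_inv_eq_iff_eq_mul.mp h2]
    change _ = _ * 1
    rw [mul_one])
  exact ⟨p, τ, hl⟩

variable (A) in
/-- automorphisms with a code -/
def MT : Subgroup (MulAut L) where
  carrier := {α | ∃ p τ, A.Cd α p τ}
  mul_mem' := by
    rintro α β ⟨p, τ, h⟩ ⟨q, ρ, h'⟩
    exact ⟨_, _, h.mul h'⟩
  one_mem' := ⟨_, _, isTau_one.cd⟩
  inv_mem' := by
    rintro α ⟨p, τ, h⟩
    exact ⟨_, _, h.inv⟩

theorem IsTau.mem_MT {τ : Ty} {β : MulAut L} (h : A.IsTau τ β) : β ∈ A.MT := ⟨_, _, h.cd⟩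

theorem conj_mem_MT (p : Code) : MulAut.conj (A.el p) ∈ A.MT := by
  refine ⟨cinv p, (false, false), ?_⟩
  unfold Cd
  rw [← A.el_inv, map_inv, inv_mul_cancel]
  exact isTau_one

theorem MT_odd : ¬ 2 ∣ Nat.card (MulAut L ⧸ A.MT) := by
  let act : MulAction L (MulAut L ⧸ A.MT) :=
    MulAction.compHom _ (MulAut.conj : L →* MulAut L)
  have hact : ∀ (l : L) (β : MulAut L), l • (β : MulAut L ⧸ A.MT) =
      ((MulAut.conj l * β : MulAut L) : MulAut L ⧸ A.MT) := fun _ _ => rfl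
  have htr : MulAction.IsPretransitive L (MulAut L ⧸ A.MT) := by
    rw [MulAction.isPretransitive_iff_base ((1 : MulAut L) : MulAut L ⧸ A.MT)]
    intro x
    obtain ⟨β, rfl⟩ := QuotientGroup.mk_surjective x
    obtain ⟨l, τ, hl⟩ := A.exists_tau β
    refine ⟨l⁻¹, ?_⟩
    rw [hact, QuotientGroup.eq, mul_one, map_inv, inv_inv]
    exact hl.mem_MT
  rw [← MulAction.index_stabilizer_of_transitive L ((1 : MulAut L) : MulAut L ⧸ A.MT)]
  intro h
  apply A.T_index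
  refine h.trans (Subgroup.index_dvd_of_le ?_)
  rintro _ ⟨p, rfl⟩
  rw [MulAction.mem_stabilizer_iff, hact, mul_one, QuotientGroup.eq, mul_one]
  exact inv_mem (conj_mem_MT p)

/-- every 2-group of automorphisms is conjugate into `MT` -/
theorem exists_conj_MT (A : Cov L) (Q : Subgroup (MulAut L)) (hQ : IsPGroup 2 Q) :
    ∃ l, ∀ α ∈ Q, MulAut.conj l * α * (MulAut.conj l)⁻¹ ∈ A.MT := by
  obtain ⟨x, hx⟩ := hQ.nonempty_fixed_point_of_prime_not_dvd_card (MulAut L ⧸ A.MT) MT_odd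
  obtain ⟨β, rfl⟩ := QuotientGroup.mk_surjective x
  obtain ⟨l, τ, hl⟩ := A.exists_tau β
  refine ⟨l, fun α hα => ?_⟩
  have h2 := hx ⟨α, hα⟩
  have h3 : ((α * β : MulAut L) : MulAut L ⧸ A.MT) = (β : MulAut L ⧸ A.MT) := h2
  rw [eq_comm, QuotientGroup.eq] at h3
  have h4 := mul_mem (mul_mem hl.mem_MT h3) (inv_mem hl.mem_MT)
  convert h4 using 1
  group

theorem isPGroup_zpowers {α : MulAut L} {n : ℕ} (h : α ^ (2 ^ n) = 1) :
    IsPGroup 2 (Subgroup.zpowers α) := by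
  intro x
  obtain ⟨x, hx⟩ := x
  obtain ⟨k, rfl⟩ := Subgroup.mem_zpowers_iff.mp hx
  refine ⟨n, ?_⟩
  apply Subtype.ext
  show (α ^ k) ^ (2 ^ n) = 1
  rw [← zpow_natCast, ← zpow_mul, mul_comm, zpow_mul, zpow_natCast, h, one_zpow]

theorem exists_conj_cd (A : Cov L) {α : MulAut L} {n : ℕ} (h : α ^ (2 ^ n) = 1) :
    ∃ l p τ, A.Cd (MulAut.conj l * α * (MulAut.conj l)⁻¹) p τ := by
  obtain ⟨l, hl⟩ := A.exists_conj_MT _ (isPGroup_zpowers h)
  obtain ⟨p, τ, hp⟩ := hl α (Subgroup.mem_zpowers α)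
  exact ⟨l, p, τ, hp⟩

/-- **Classes of involutory outer automorphisms.** -/
theorem exists_conj_tau (A : Cov L) (α : MulAut L) (h2 : α * α = 1) (ho : ∀ l, α ≠ MulAut.conj l) :
    ∃ l τ, τ ≠ (false, false) ∧ A.IsTau τ (MulAut.conj l * α * (MulAut.conj l)⁻¹) := by
  obtain ⟨l, p, τ, hcd⟩ := A.exists_conj_cd (α := α) (n := 1) (by rw [pow_one, pow_two, h2])
  set v' := MulAut.conj l * α * (MulAut.conj l)⁻¹ with hv'
  have h2' : v' * v' = 1 := by
    calc v' * v' = MulAut.conj l * (α * α) * (MulAut.conj l)⁻¹ := by rw [hv']; group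
      _ = 1 := by rw [h2]; group
  have hτ : τ ≠ (false, false) := by
    rintro rfl
    have h3 : MulAut.conj (A.el p) * v' = 1 := IsTau.ext hcd isTau_one
    apply ho (l⁻¹ * (A.el p)⁻¹ * l)
    have h4 : v' = (MulAut.conj (A.el p))⁻¹ := eq_inv_of_mul_eq_one_right h3
    rw [map_mul, map_mul, map_inv, map_inv, ← h4, hv']
    group
  have hcd' := hcd.nk
  have hsq := hcd'.mul hcd'
  rw [h2'] at hsq
  obtain ⟨-, h4⟩ := hsq.one
  obtain ⟨a', b', c', hq⟩ := inv_outer τ p.a p.b p.c hτ h4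
  have hc2 := hcd'.conj ⟨a', b', c', false⟩
  refine ⟨A.el ⟨a', b', c', false⟩ * l, τ, hτ, ?_⟩
  have := hc2.cone hq
  convert this using 1
  rw [hv', map_mul]; group

/-- the square of an automorphism is inner -/
theorem sq_inner (A : Cov L) (α : MulAut L) : ∃ l, α * α = MulAut.conj l := by
  obtain ⟨l, τ, hl⟩ := A.exists_tau α
  have h1 := hl.sq
  refine ⟨(l * α l)⁻¹, ?_⟩
  have h2 := conj_map α l
  rw [map_inv, map_mul, h2, eq_comm, inv_eq_of_mul_eq_one_right]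
  rw [← h1]
  group

/-- the subgroup generated by the squares of the fixed points -/
def Sq (β : MulAut L) : Subgroup L := Subgroup.closure {y | ∃ q, β q = q ∧ y = q * q}

theorem mem_Sq {β : MulAut L} {q : L} (h : β q = q) : q * q ∈ Sq β := Subgroup.subset_closure ⟨q, h, rfl⟩

theorem comm_mem_Sq {β : MulAut L} {a b : L} (ha : β a = a) (hb : β b = b) : a * b * a⁻¹ * b⁻¹ ∈ Sq β := by
  have h1 := mem_Sq ha
  have h2 : (a⁻¹ * b) * (a⁻¹ * b) ∈ Sq β := mem_Sq (by rw [map_mul, map_inv, ha, hb])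
  have h3 : b⁻¹ * b⁻¹ ∈ Sq β := mem_Sq (by rw [map_inv, hb])
  have h4 := mul_mem (mul_mem h1 h2) h3
  convert h4 using 1
  group

theorem IsTau.x02_mem_Sq {τ : Ty} {β : MulAut L} (h : A.IsTau τ β) : A.x 0 2 1 ∈ Sq β := by
  obtain ⟨e, f⟩ := τ
  cases f
  · -- field (or trivial): `x₀₂(1) = (x₀₁(1) x₁₂(1))²`
    have e1 : ∀ e, ctau (e, false) ⟨1, 1, 0, false⟩ = ⟨1, 1, 0, false⟩ := by decide
    have h1 : β (A.el ⟨1, 1, 0, false⟩) = A.el ⟨1, 1, 0, false⟩ := by rw [h.el, e1]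
    have h2 := mem_Sq h1
    rw [A.el_mul] at h2
    have e2 : cmul ⟨1, 1, 0, false⟩ ⟨1, 1, 0, false⟩ = ⟨0, 0, 1, false⟩ := by decide
    rwa [e2, A.el_x02] at h2
  · cases e
    · -- graph
      have hh : β A.h = A.h := by
        have h1 := A.h_eq 0 2 (by decide)
        rw [← h1]
        have e1 : ∀ u, fr false u = u := fun u => rfl
        simp only [map_mul, h.x02, h.x20, e1]
      have hx : β (A.x 0 2 F4.v) = A.x 0 2 F4.v := by rw [h.x02]; rfl
      have h2 := comm_mem_Sq (a := A.h⁻¹) (b := A.x 0 2 F4.v) (by rw [map_inv, hh]) hx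
      rw [inv_inv, A.h_x 0 2 (by decide), A.x_inv 0 2 (by decide), A.x_add 0 2 (by decide)] at h2
      have e2 : kap 0 2 * F4.v + F4.v = 1 := by decide
      rwa [e2] at h2
    · -- unitary
      have e1 : ctau (true, true) ⟨1, 1, F4.w, false⟩ = ⟨1, 1, F4.w, false⟩ := by decide
      have h1 : β (A.el ⟨1, 1, F4.w, false⟩) = A.el ⟨1, 1, F4.w, false⟩ := by rw [h.el, e1]
      have h2 := mem_Sq h1
      rw [A.el_mul] at h2
      have e2 : cmul ⟨1, 1, F4.w, false⟩ ⟨1, 1, F4.w, false⟩ = ⟨0, 0, 1, false⟩ := by decide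
      rwa [e2, A.el_x02] at h2

theorem IsTau.exists_sq {τ : Ty} {β : MulAut L} (hτ : τ ≠ (false, false)) (h : A.IsTau τ β) :
    ∃ k, β k * k⁻¹ = A.x 0 2 1 := by
  obtain ⟨e, f⟩ := τ
  cases e
  · cases f
    · exact absurd rfl hτ
    · refine ⟨A.el ⟨1, 1, 0, false⟩, ?_⟩
      rw [h.el, A.el_inv, A.el_mul]
      have e1 : cmul (ctau (false, true) ⟨1, 1, 0, false⟩) (cinv ⟨1, 1, 0, false⟩) = ⟨0, 0, 1, false⟩ := by decide
      rw [e1, A.el_x02]
  · refine ⟨A.x 0 2 F4.w, ?_⟩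
    rw [h.x02, A.x_inv 0 2 (by decide), A.x_add 0 2 (by decide)]
    rfl

theorem x02_ne_one (A : Cov L) : A.x 0 2 1 ≠ 1 := by
  rw [← A.el_x02, ← A.el_one]
  exact fun h => absurd (A.inj h) (by decide)

/-- **(F6)** -/
theorem exists_square (A : Cov L) (α : MulAut L) (h2 : α * α = 1) (ho : ∀ l, α ≠ MulAut.conj l) :
    ∃ k, α k * k⁻¹ ≠ 1 ∧ α k * k⁻¹ ∈ Sq α := by
  obtain ⟨l, τ, hτ, h⟩ := A.exists_conj_tau α h2 ho
  set β := MulAut.conj l * α * (MulAut.conj l)⁻¹ with hβ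
  obtain ⟨k, hk⟩ := h.exists_sq hτ
  have h1 := h.x02_mem_Sq
  have h3 : ∀ m, β m = l * α (l⁻¹ * m * l) * l⁻¹ := by
    intro m
    rw [hβ, MulAut.mul_apply, MulAut.mul_apply, ← map_inv, MulAut.conj_apply, MulAut.conj_apply, inv_inv]
  have h4 : α (l⁻¹ * k * l) * (l⁻¹ * k * l)⁻¹ = l⁻¹ * A.x 0 2 1 * l := by
    rw [← hk, h3]; group
  have h5 : Sq β ≤ (Sq α).map (MulAut.conj l).toMonoidHom := by
    rw [Sq, Subgroup.closure_le]
    rintro _ ⟨q, hq, rfl⟩
    rw [h3] at hq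
    have hq' : α (l⁻¹ * q * l) = l⁻¹ * q * l := by
      calc α (l⁻¹ * q * l) = l⁻¹ * (l * α (l⁻¹ * q * l) * l⁻¹) * l := by group
        _ = _ := by rw [hq]
    refine ⟨_, mem_Sq hq', ?_⟩
    show l * (l⁻¹ * q * l * (l⁻¹ * q * l)) * l⁻¹ = q * q
    group
  refine ⟨l⁻¹ * k * l, ?_, ?_⟩
  · rw [h4]
    intro h6
    apply A.x02_ne_one
    calc A.x 0 2 1 = l * (l⁻¹ * A.x 0 2 1 * l) * l⁻¹ := by group
      _ = 1 := by rw [h6]; group
  · rw [h4]
    obtain ⟨y, hy, hyx⟩ := h5 h1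
    have h6 : l * y * l⁻¹ = A.x 0 2 1 := hyx
    rw [← h6]
    have h7 : l⁻¹ * (l * y * l⁻¹) * l = y := by group
    rw [h7]
    exact hy

end Cov

end Cfsg.Agent.OddHalf.D9.L34
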