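import Cfsg.Agent.OddHalf.D9.L34.OutAut
import Cfsg.Agent.OddHalf.Table.Iface17
import Cfsg.Agent.LThreeFour.Facts
import Cfsg.Agent.LThreeFour.Exists

/-!
# The outer K-facts (F5), (F6), (F7) of `2.L3(4)`

`Act H K R z`: `K` is a perfect subgroup of `G` normalized by `H ≥ K`, `C_H(K) ≤ R`, `R` centralizes `K`, and `z` is the
only involution of `R` (`z ∈ Z(K)`).

* `Act.elab_le` (F5): an elementary abelian subgroup of `H` of order `≥ 32` is contained in `K`;
* `Act.exists_square` (F6): for an involution `e` of `H` outside `K R` there is `k ∈ K` with `1 ≠ [e, k]` in the subgroup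
  generated by the squares of `C_H(e)`;
* `Act.sq_mem` (F7): `h * h ∈ K R` for `h ∈ H`.
-/

set_option autoImplicit false

namespace Cfsg.Agent.OddHalf.D9.L34

open Subgroup
open Cfsg.Agent.OddHalf.Table (quoAut quoAut_mk quoAut_conj eq_one_of_quoAut_eq_one)

/-- The action of `H` on `K`. -/
structure Act {G : Type*} [Group G] (H K R : Subgroup G) (z : G) : Prop where
  le : K ≤ H
  nrm : ∀ h ∈ H, ∀ k ∈ K, h * k * h⁻¹ ∈ K
  cen : ∀ h ∈ H, (∀ k ∈ K, h * k = k * h) → h ∈ R
  RH : R ≤ H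
  comm : ∀ r ∈ R, ∀ k ∈ K, r * k = k * r
  inv : ∀ r ∈ R, r * r = 1 → r = 1 ∨ r = z
  zK : z ∈ K

/-- A group of commuting involutory automorphisms of a perfect `L` with `L/Z(L) = L3(4)`, of order `≥ 16`, consists of
inner automorphisms. -/
theorem elab_inner {L : Type*} [Group L] (hperf : commutator L = ⊤)
    (D : LThreeFour.Dat (L ⧸ Subgroup.center L)) (E : Subgroup (MulAut L)) (hE : ∀ x ∈ E, x * x = 1)
    (hc : 8 < Nat.card E) : ∀ x ∈ E, ∃ l, x = MulAut.conj l := by
  have hinj : Function.Injective (quoAut L) := by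
    rw [injective_iff_map_eq_one]
    exact fun a ha => eq_one_of_quoAut_eq_one hperf ha
  have h1 : Nat.card (E.map (quoAut L)) = Nat.card E :=
    (Nat.card_congr (E.equivMapOfInjective _ hinj).toEquiv).symm
  have h2 : ∀ x ∈ E.map (quoAut L), D.tyHom x = 1 := by
    intro x hx
    by_contra hne
    have h3 := D.card_le_eight (E.map (quoAut L)) (by
      rintro _ ⟨y, hy, rfl⟩
      rw [← map_mul, hE y hy, map_one]) ⟨x, hx, hne⟩
    omega
  intro x hx
  obtain ⟨q, hq⟩ := D.inner_iff.1 (h2 _ ⟨x, hx, rfl⟩)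
  induction q using QuotientGroup.induction_on with
  | H l =>
    refine ⟨l, hinj ?_⟩
    rw [hq, quoAut_conj]

namespace Act

variable {G : Type*} [Group G] {H K R : Subgroup G} {z : G}

/-- the automorphism of `K` induced by an element of `H` -/
def toAut (F : Act H K R z) : H →* MulAut K where
  toFun h :=
    { toFun := fun k => ⟨h * k * (h : G)⁻¹, F.nrm h h.2 k k.2⟩
      invFun := fun k => ⟨(h : G)⁻¹ * k * h, by
        have := F.nrm (h : G)⁻¹ (inv_mem h.2) k k.2
        rwa [inv_inv] at this⟩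
      left_inv := fun k => Subtype.ext (by
        change (h : G)⁻¹ * (h * k * (h : G)⁻¹) * h = k
        group)
      right_inv := fun k => Subtype.ext (by
        change h * ((h : G)⁻¹ * k * h) * (h : G)⁻¹ = k
        group)
      map_mul' := fun a b => Subtype.ext (by
        change h * ((a : G) * b) * (h : G)⁻¹ = h * a * (h : G)⁻¹ * (h * b * (h : G)⁻¹)
        group) }
  map_one' := by
    apply MulEquiv.ext
    intro k
    apply Subtype.ext
    change 1 * (k : G) * (1 : G)⁻¹ = k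
    group
  map_mul' a b := by
    apply MulEquiv.ext
    intro k
    apply Subtype.ext
    change ((a : G) * b) * k * ((a : G) * b)⁻¹ = a * (b * k * (b : G)⁻¹) * (a : G)⁻¹
    group

theorem toAut_apply (F : Act H K R z) (h : H) (k : K) : ((F.toAut h k : K) : G) = h * k * (h : G)⁻¹ := rfl

/-- inner action -/
theorem mem_of_inner (F : Act H K R z) {h : H} {l : K} (hl : F.toAut h = MulAut.conj l) :
    ∃ r ∈ R, (h : G) = l * r := by
  refine ⟨(l : G)⁻¹ * h, ?_, by group⟩
  apply F.cen _ (mul_mem (inv_mem (F.le l.2)) h.2)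
  intro k hk
  have h1 := congrArg Subtype.val (DFunLike.congr_fun hl ⟨k, hk⟩)
  have h2 : (h : G) * k * (h : G)⁻¹ = l * k * (l : G)⁻¹ := h1
  calc (l : G)⁻¹ * h * k = (l : G)⁻¹ * (h * k * (h : G)⁻¹) * h := by group
    _ = (l : G)⁻¹ * (l * k * (l : G)⁻¹) * h := by rw [h2]
    _ = k * ((l : G)⁻¹ * h) := by group

/-- **(F7)** -/
theorem sq_mem (F : Act H K R z) (A : Cov K) (h : G) (hh : h ∈ H) : ∃ k ∈ K, ∃ r ∈ R, h * h = k * r := by
  obtain ⟨l, hl⟩ := A.sq_inner (F.toAut ⟨h, hh⟩)
  rw [← map_mul] at hl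
  obtain ⟨r, hr, h1⟩ := F.mem_of_inner hl
  exact ⟨l, l.2, r, hr, h1⟩

/-- **(F6)** -/
theorem exists_square (F : Act H K R z) (A : Cov K) (e : G) (he : e ∈ H) (h2 : e * e = 1)
    (ho : ∀ k ∈ K, ∀ r ∈ R, e ≠ k * r) :
    ∃ k ∈ K, e * k * e⁻¹ * k⁻¹ ≠ 1 ∧
      e * k * e⁻¹ * k⁻¹ ∈ Subgroup.closure {y : G | ∃ q ∈ K, q * e = e * q ∧ y = q * q} := by
  obtain ⟨k, h3, h4⟩ := A.exists_square (F.toAut ⟨e, he⟩) (by
    rw [← map_mul]
    have : (⟨e, he⟩ : H) * ⟨e, he⟩ = 1 := Subtype.ext h2
    rw [this, map_one]) (by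
    intro l hl
    obtain ⟨r, hr, h5⟩ := F.mem_of_inner hl
    exact ho l l.2 r hr h5)
  refine ⟨k, k.2, fun h => h3 (Subtype.ext h), ?_⟩
  have h5 : (Cov.Sq (F.toAut ⟨e, he⟩)).map K.subtype ≤
      Subgroup.closure {y : G | ∃ q ∈ K, q * e = e * q ∧ y = q * q} := by
    rw [Cov.Sq, MonoidHom.map_closure, Subgroup.closure_le]
    rintro _ ⟨_, ⟨q, hq, rfl⟩, rfl⟩
    apply Subgroup.subset_closure
    refine ⟨q, q.2, ?_, rfl⟩
    have h6 : e * (q : G) * e⁻¹ = q := congrArg Subtype.val hq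
    rw [mul_inv_eq_iff_eq_mul] at h6
    exact h6.symm
  exact h5 ⟨_, h4, rfl⟩

/-- **(F5)** -/
theorem elab_le (F : Act H K R z) (hperf : commutator K = ⊤) (hZ : ∀ k ∈ K, (∀ m ∈ K, k * m = m * k) → k = 1 ∨ k = z)
    (D : LThreeFour.Dat (K ⧸ Subgroup.center K)) (h1 : ∀ y ∈ K, y * y ≠ z)
    (E : Subgroup G) (hE : ∀ x ∈ E, x * x = 1) (hEH : E ≤ H) (hc : 32 ≤ Nat.card E) : E ≤ K := by
  have hfin : Finite E := Nat.finite_of_card_ne_zero (by omega)
  let φ : E →* MulAut K := F.toAut.comp (Subgroup.inclusion hEH)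
  have hker : Nat.card φ.ker ≤ 2 := by
    classical
    have h3 : ∀ x : φ.ker, ((x : E) : G) = 1 ∨ ((x : E) : G) = z := by
      intro x
      apply F.inv _ _ (hE _ x.1.2)
      apply F.cen _ (hEH x.1.2)
      intro k hk
      have h4 : φ x = 1 := x.2
      have h5 := congrArg Subtype.val (DFunLike.congr_fun h4 ⟨k, hk⟩)
      have h6 : ((x : E) : G) * k * ((x : E) : G)⁻¹ = k := h5
      rw [mul_inv_eq_iff_eq_mul] at h6
      exact h6
    let g : φ.ker → Bool := fun x => decide (((x : E) : G) = 1)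
    have hg : Function.Injective g := by
      intro x y hxy
      apply Subtype.ext
      apply Subtype.ext
      by_cases hx : ((x : E) : G) = 1
      · have : g x = true := decide_eq_true hx
        rw [this] at hxy
        rw [hx, of_decide_eq_true hxy.symm]
      · have : g x = false := decide_eq_false hx
        rw [this] at hxy
        have hy : ((y : E) : G) ≠ 1 := of_decide_eq_false hxy.symm
        rw [(h3 x).resolve_left hx, (h3 y).resolve_left hy]
    have := Nat.card_le_card_of_injective g hg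
    simpa using this
  have hran : 8 < Nat.card φ.range := by
    have h3 : Nat.card E = Nat.card φ.ker * Nat.card φ.range := by
      rw [← Subgroup.card_mul_index φ.ker, Subgroup.index_ker]
    by_contra hcon
    push Not at hcon
    have : Nat.card φ.ker * Nat.card φ.range ≤ 2 * 8 := Nat.mul_le_mul hker hcon
    omega
  have hin := elab_inner hperf D φ.range (by
    rintro _ ⟨x, rfl⟩
    rw [← map_mul]
    have : x * x = 1 := Subtype.ext (hE x x.2)
    rw [this, map_one]) hran
  intro e he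
  obtain ⟨l, hl⟩ := hin _ ⟨⟨e, he⟩, rfl⟩
  obtain ⟨r, hr, h3⟩ := F.mem_of_inner (h := ⟨e, hEH he⟩) hl
  change e = l * r at h3
  have h4 : (l : G) * l * (r * r) = 1 := by
    have h5 := hE e he
    rw [h3] at h5
    calc (l : G) * l * (r * r) = l * (l * r) * r := by group
      _ = l * (r * l) * r := by rw [F.comm r hr l l.2]
      _ = l * r * (l * r) := by group
      _ = 1 := h5
  have h5 : (l : G) * l = 1 := by
    have h6 : (l : G) * l = (r * r)⁻¹ := eq_inv_of_mul_eq_one_left h4
    rcases hZ _ (mul_mem l.2 l.2) (by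
      intro m hm
      rw [h6]
      have h7 : r * r * m = m * (r * r) := by
        rw [mul_assoc, F.comm r hr m hm, ← mul_assoc, F.comm r hr m hm, mul_assoc]
      rw [inv_mul_eq_iff_eq_mul, ← mul_assoc, h7, mul_inv_cancel_right]) with h | h
    · exact h
    · exact absurd h (h1 l l.2)
  have h6 : r * r = 1 := by rwa [h5, one_mul] at h4
  rw [h3]
  rcases F.inv r hr h6 with h | h
  · rw [h, mul_one]; exact l.2
  · rw [h]; exact mul_mem l.2 F.zK

end Act

end Cfsg.Agent.OddHalf.D9.L34
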