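import Cfsg.Agent.OddHalf.D9.RowKFacts
import Cfsg.Agent.OddHalf.D9.L34.OutK
import Cfsg.Agent.OddHalf.D9.L34.InnerFacts
import Cfsg.Agent.OddHalf.D9.L34.Exists
import Cfsg.Agent.OddHalf.Soft

/-!
# D9: the row `K = 2.L3(4)`
-/

set_option autoImplicit false

namespace Cfsg.Agent.OddHalf.D9.L34.Row

open Subgroup Cfsg Cfsg.Agent.OddHalf.Iface

universe u

/-- the facts about a perfect group `K` with `|Z(K)| = 2` and `K / Z(K) = L3(4)` -/
theorem exists_kfacts {K : Type*} [Group K] [Finite K] (hZ2 : Nat.card (center K) = 2)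
    (hperf : commutator K = ⊤) {F : Type*} [Field F] [Fintype F] (hF : Fintype.card F = 4)
    (e : K ⧸ center K ≃* Matrix.ProjectiveSpecialLinearGroup (Fin 3) F) :
    ∃ z : K, DoubleKill.KFacts z 32 := by
  obtain ⟨A, -, -, -⟩ := exists_cov hZ2 hperf hF e
  obtain ⟨D⟩ := LThreeFour.exists_dat hF e
  exact ⟨A.z, kfacts_of A (OutK.el hperf D) (OutK.out A) (OutK.exp2 A)⟩

/-- **The row `2.L3(4)`.** -/
theorem row : Cut.Row.{u} (fun K _ => Cut.Two (fun X _ => Cut.XL34 X) K) := by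
  intro G _ C K S hc hK
  have := C.fin
  obtain ⟨h2, F, iF, iFF, hF, ⟨e⟩⟩ := hK
  obtain ⟨t, -, hcomp⟩ := S.comp
  obtain ⟨z, hz⟩ := exists_kfacts h2 (Soft.CompOf.quasisimple hcomp).1.commutator_eq_top hF e
  exact RowKFacts.false_of_kfacts C S hc hz

end Cfsg.Agent.OddHalf.D9.L34.Row
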